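import Groth.Agent.McCoy.Split
import Groth.Agent.Depth.Basic

/-!
# Acyclicity of complexes of finite free modules
-/

noncomputable section

universe u

open CAlgX Matrix IsLocalRing

namespace Groth.Agent.McCoy

section Cx

variable {R : Type u} [CommRing R] (e : ℕ) (n : ℕ → ℕ)
  (A : (i : ℕ) → Matrix (Fin (n i)) (Fin (n (i + 1))) R)

/-- The image arriving at the source of `A i` (zero at the end of the complex). -/
def nxt (i : ℕ) : Submodule R (Fin (n (i + 1)) → R) :=
  if i + 1 < e then LinearMap.range (A (i + 1)).mulVecLin else ⊥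

lemma nxt_eq_range {i : ℕ} (h : i + 1 < e) : nxt e n A i = LinearMap.range (A (i + 1)).mulVecLin :=
  if_pos h

lemma nxt_eq_bot {i : ℕ} (h : e ≤ i + 1) : nxt e n A i = ⊥ := if_neg (by omega)

lemma nxt_le_ker (hA : ∀ i, i + 2 ≤ e → A i * A (i + 1) = 0) (i : ℕ) :
    nxt e n A i ≤ LinearMap.ker (A i).mulVecLin := by
  by_cases h : i + 1 < e
  · rw [nxt_eq_range e n A h]
    rintro _ ⟨x, rfl⟩
    rw [LinearMap.mem_ker, Matrix.mulVecLin_apply, Matrix.mulVecLin_apply, Matrix.mulVec_mulVec,
      hA i (by omega), Matrix.zero_mulVec]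
  · rw [nxt_eq_bot e n A (by omega)]; exact bot_le

/-- Exactness of the complex in all positive degrees. -/
def IsExact : Prop := ∀ i, i < e → LinearMap.ker (A i).mulVecLin = nxt e n A i

lemma isExact_iff (he : 1 ≤ e) :
    IsExact e n A ↔ LinearMap.ker (A (e - 1)).mulVecLin = ⊥ ∧
      ∀ i, i + 2 ≤ e → LinearMap.ker (A i).mulVecLin = LinearMap.range (A (i + 1)).mulVecLin := by
  constructor
  · intro h
    refine ⟨by rw [h (e - 1) (by omega), nxt_eq_bot e n A (by omega)], fun i hi => ?_⟩
    rw [h i (by omega), nxt_eq_range e n A (by omega)]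
  · rintro ⟨h1, h2⟩ i hi
    by_cases h : i + 1 < e
    · rw [nxt_eq_range e n A h, h2 i (by omega)]
    · obtain rfl : i = e - 1 := by omega
      rw [nxt_eq_bot e n A (by omega), h1]

/-- Expected ranks. -/
def rk (i : ℕ) : ℤ := ∑ k ∈ Finset.range (e - i), (-1 : ℤ) ^ k * (n (i + 1 + k) : ℤ)

lemma rk_rec {i : ℕ} (h : i < e) : rk e n i + rk e n (i + 1) = n (i + 1) := by
  obtain ⟨k, hk⟩ : ∃ k, e - i = k + 1 := ⟨e - i - 1, by omega⟩
  rw [rk, rk, hk, show e - (i + 1) = k by omega, Finset.sum_range_succ',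
    add_right_comm, ← Finset.sum_add_distrib]
  simp only [pow_zero, one_mul, add_zero]
  rw [Finset.sum_eq_zero fun j _ => ?_, zero_add]
  rw [pow_succ, show i + 1 + (j + 1) = i + 1 + 1 + j by ring]
  ring

lemma rk_of_le {i : ℕ} (h : e ≤ i) : rk e n i = 0 := by
  simp [rk, show e - i = 0 by omega]

lemma rk_shift (i : ℕ) : rk e (fun k => n (k + 1)) i = rk (e + 1) n (i + 1) := by
  rw [rk, rk, show e + 1 - (i + 1) = e - i by omega]
  exact Finset.sum_congr rfl fun k _ => by
    rw [show i + 1 + k + 1 = i + 1 + 1 + k by ring]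

lemma sum_Icc_eq_rk {j : ℕ} (hj : 1 ≤ j) :
    ∑ t ∈ Finset.Icc j e, (-1 : ℤ) ^ (t - j) * (n t : ℤ) = rk e n (j - 1) := by
  rw [rk, ← Finset.Ico_add_one_right_eq_Icc, Finset.sum_Ico_eq_sum_range,
    show e - (j - 1) = e + 1 - j by omega]
  refine Finset.sum_congr rfl fun k _ => ?_
  rw [show j + k - j = k by omega, show j - 1 + 1 + k = j + k by omega]

/-- If the complex has unit minors of the expected sizes from `i` on, it is exact at `i`. -/
theorem exact_at_of_rankUnit [IsLocalRing R] (hA : ∀ i, i + 2 ≤ e → A i * A (i + 1) = 0)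
    (r : ℕ → ℕ) (hr : ∀ i, i < e → (r i : ℤ) = rk e n i) {i : ℕ} (hi : i < e)
    (h : ∀ k, i ≤ k → k < e → RankUnit (A k) (r k)) :
    LinearMap.ker (A i).mulVecLin = nxt e n A i ∧
      Module.Free R ((Fin (n i) → R) ⧸ LinearMap.range (A i).mulVecLin) := by
  obtain ⟨h1, h2, h3, -⟩ := split_of_rankUnit (h i le_rfl hi)
  refine ⟨?_, h3⟩
  have hrec := rk_rec e n hi
  by_cases hnext : i + 1 < e
  · obtain ⟨-, -, h3', h4'⟩ := split_of_rankUnit (h (i + 1) (by omega) hnext)
    rw [nxt_eq_range e n A hnext]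
    refine ker_eq_of_rank _ ((nxt_eq_range e n A hnext) ▸ nxt_le_ker e n A hA i) ?_
    rw [h2]
    have := hr i hi
    have := hr (i + 1) hnext
    omega
  · rw [nxt_eq_bot e n A (by omega)]
    haveI : Module.Free R ((Fin (n (i + 1)) → R) ⧸ (⊥ : Submodule R (Fin (n (i + 1)) → R))) :=
      Module.Free.of_equiv (Submodule.quotEquivOfEqBot ⊥ rfl).symm
    refine ker_eq_of_rank _ bot_le ?_
    rw [h2, (Submodule.quotEquivOfEqBot ⊥ rfl).finrank_eq, Module.finrank_fin_fun]
    have := hr i hi
    have := rk_of_le e n (i := i + 1) (by omega)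
    omega

end Cx

section Depth

variable {R : Type u} [CommRing R] [IsNoetherianRing R] [IsLocalRing R]

lemma le_idealDepth_fun {d : ℕ} (hd : (d : ℕ∞) ≤ LocCoh.idealDepth (maximalIdeal R) R) :
    ∀ k : ℕ, (d : ℕ∞) ≤ LocCoh.idealDepth (maximalIdeal R) (Fin k → R)
  | 0 => by rw [Depth.idealDepth_of_subsingleton]; exact le_top
  | k + 1 => by
    refine Depth.le_idealDepth_mid (f := LinearMap.single R (fun _ : Fin (k + 1) => R) 0)
      (g := LinearMap.funLeft R R (Fin.succ : Fin k → Fin (k + 1))) (fun a b h => by simpa using congr_fun h 0)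
      (LinearMap.funLeft_surjective_of_injective _ _ _ (Fin.succ_injective _)) ?_ hd
      (le_idealDepth_fun hd k)
    intro y
    constructor
    · intro hy
      refine ⟨y 0, funext fun p => ?_⟩
      induction p using Fin.cases with
      | zero => simp
      | succ q =>
        have := congr_fun hy q
        simp only [LinearMap.funLeft_apply, Pi.zero_apply] at this
        simp [this]
    · rintro ⟨x, rfl⟩
      funext q
      simp [LinearMap.funLeft_apply]

lemma le_idealDepth_of_free {d : ℕ} (hd : (d : ℕ∞) ≤ LocCoh.idealDepth (maximalIdeal R) R)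
    (M : Type u) [AddCommGroup M] [Module R M] [Module.Free R M] [Module.Finite R M] :
    (d : ℕ∞) ≤ LocCoh.idealDepth (maximalIdeal R) M := by
  rw [Depth.idealDepth_congr (Module.finBasis R M).equivFun]
  exact le_idealDepth_fun hd _

/-- A module of positive depth has no elements killed by a power of the maximal ideal. -/
lemma eq_zero_of_depth {M : Type u} [AddCommGroup M] [Module R M] [Module.Finite R M]
    (h : 1 ≤ LocCoh.idealDepth (maximalIdeal R) M) {v : M} {N : ℕ}
    (hv : ∀ x ∈ maximalIdeal R ^ N, x • v = 0) : v = 0 := by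
  by_cases hs : Subsingleton M
  · exact Subsingleton.elim _ _
  haveI : Nontrivial M := not_subsingleton_iff_nontrivial.1 hs
  obtain ⟨x, hx, hreg⟩ := (Depth.one_le_idealDepth_iff Depth.maximalIdeal_smul_top_ne_top).1 h
  exact (hreg.pow N).right_eq_zero_of_smul (hv _ (Ideal.pow_mem_pow hx N))

/-- The acyclicity lemma. -/
theorem isExact_of_punctured (e : ℕ) (n : ℕ → ℕ)
    (A : (i : ℕ) → Matrix (Fin (n i)) (Fin (n (i + 1))) R)
    (d : ℕ) (hd : (d : ℕ∞) ≤ LocCoh.idealDepth (maximalIdeal R) R)
    (hsplit : ∀ i, i < e → d ≤ i → LinearMap.ker (A i).mulVecLin = nxt e n A i ∧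
      Module.Free R ((Fin (n i) → R) ⧸ LinearMap.range (A i).mulVecLin))
    (hle : ∀ i, i < e → nxt e n A i ≤ LinearMap.ker (A i).mulVecLin)
    (htor : ∀ i, i < e → ∀ v ∈ LinearMap.ker (A i).mulVecLin,
      ∃ N : ℕ, ∀ x ∈ maximalIdeal R ^ N, x • v ∈ nxt e n A i) :
    IsExact e n A := by
  have hexact : ∀ i, i < e →
      ((min (i + 1) d : ℕ) : ℕ∞) ≤
        LocCoh.idealDepth (maximalIdeal R) ((Fin (n (i + 1)) → R) ⧸ nxt e n A i) →
      LinearMap.ker (A i).mulVecLin = nxt e n A i := by
    intro i hi hdep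
    by_cases hdi : d ≤ i
    · exact (hsplit i hi hdi).1
    refine le_antisymm (fun v hv => ?_) (hle i hi)
    obtain ⟨N, hN⟩ := htor i hi v hv
    rw [← Submodule.Quotient.mk_eq_zero]
    refine eq_zero_of_depth (le_trans ?_ hdep) (N := N) fun x hx => ?_
    · exact_mod_cast (show 1 ≤ min (i + 1) d by omega)
    · rw [← Submodule.Quotient.mk_smul, Submodule.Quotient.mk_eq_zero]
      exact hN x hx
  have key : ∀ k i, i + k + 1 = e → ((min (i + 1) d : ℕ) : ℕ∞) ≤
      LocCoh.idealDepth (maximalIdeal R) ((Fin (n (i + 1)) → R) ⧸ nxt e n A i) := by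
    intro k
    induction k with
    | zero =>
      intro i hi
      rw [nxt_eq_bot e n A (by omega),
        Depth.idealDepth_congr (Submodule.quotEquivOfEqBot (⊥ : Submodule R (Fin (n (i + 1)) → R)) rfl)]
      exact le_trans (by exact_mod_cast min_le_right _ _) (le_idealDepth_fun hd _)
    | succ k ih =>
      intro i hi
      have hdep := ih (i + 1) (by omega)
      have hE := hexact (i + 1) (by omega) hdep
      have h1 : i + 1 < e := by omega
      rw [nxt_eq_range e n A h1]
      by_cases hdi : d ≤ i + 1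
      · haveI := (hsplit (i + 1) h1 hdi).2
        exact le_trans (by exact_mod_cast min_le_right _ _) (le_idealDepth_of_free hd _)
      · rw [show min (i + 1) d = i + 1 by omega]
        haveI : Module.Finite R (LinearMap.range (A (i + 1)).mulVecLin) := Module.Finite.range _
        refine Depth.le_idealDepth_right
          (f := (LinearMap.range (A (i + 1)).mulVecLin).subtype)
          (g := (LinearMap.range (A (i + 1)).mulVecLin).mkQ) (Submodule.injective_subtype _)
          (Submodule.mkQ_surjective _) (LinearMap.exact_subtype_mkQ _) ?_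
          (le_trans (by exact_mod_cast (show i + 1 ≤ d by omega)) (le_idealDepth_fun hd _))
        rw [show min (i + 1 + 1) d = i + 1 + 1 by omega, Depth.idealDepth_congr
          ((Submodule.quotEquivOfEq _ _ hE.symm).trans (A (i + 1)).mulVecLin.quotKerEquivRange)]
          at hdep
        exact hdep
  exact fun i hi => hexact i hi (key (e - 1 - i) i (by omega))

end Depth

end Groth.Agent.McCoy
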