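import Groth.Agent.McCoy.Acyclic
import Groth.Agent.Depth.Change
import Groth.Agent.Depth.CM
import Mathlib.RingTheory.Ideal.KrullsHeightTheorem
import Mathlib.RingTheory.Regular.Flat

/-!
# The Buchsbaum–Eisenbud exactness criterion
-/

noncomputable section

universe u

open CAlgX Matrix IsLocalRing RingTheory.Sequence

namespace Groth.Agent.McCoy

section Loc

variable {R : Type u} [CommRing R] (e : ℕ) (n : ℕ → ℕ)
  (A : (i : ℕ) → Matrix (Fin (n i)) (Fin (n (i + 1))) R)

/-- The localised complex. -/
abbrev mapCx (S : Type u) [CommRing S] [Algebra R S] :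
    (i : ℕ) → Matrix (Fin (n i)) (Fin (n (i + 1))) S :=
  fun i => (A i).map (algebraMap R S)

lemma mapCx_mul (S : Type u) [CommRing S] [Algebra R S]
    (hA : ∀ i, i + 2 ≤ e → A i * A (i + 1) = 0) (i : ℕ) (hi : i + 2 ≤ e) :
    mapCx n A S i * mapCx n A S (i + 1) = 0 := by
  rw [mapCx, mapCx, ← Matrix.map_mul, hA i hi, Matrix.map_zero _ (map_zero _)]

variable (M : Submonoid R) (S : Type u) [CommRing S] [Algebra R S]

omit M in
lemma algebraMap_mem_nxt {i : ℕ} {v : Fin (n (i + 1)) → R} (hv : v ∈ nxt e n A i) :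
    algebraMap R S ∘ v ∈ nxt e n (mapCx n A S) i := by
  by_cases h : i + 1 < e
  · rw [nxt_eq_range e n A h] at hv
    rw [nxt_eq_range e n _ h]
    obtain ⟨x, rfl⟩ := hv
    exact ⟨algebraMap R S ∘ x, funext fun l => (RingHom.map_mulVec (algebraMap R S) _ x l).symm⟩
  · rw [nxt_eq_bot e n A (by omega), Submodule.mem_bot] at hv
    subst hv
    rw [show algebraMap R S ∘ (0 : Fin (n (i + 1)) → R) = 0 from funext fun _ => map_zero _]
    exact zero_mem _

variable [IsLocalization M S]

lemma exists_smul_mem_nxt {i : ℕ} {v : Fin (n (i + 1)) → R}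
    (hv : algebraMap R S ∘ v ∈ nxt e n (mapCx n A S) i) : ∃ t ∈ M, t • v ∈ nxt e n A i := by
  classical
  by_cases h : i + 1 < e
  · rw [nxt_eq_range e n _ h] at hv
    obtain ⟨x, hx⟩ := hv
    obtain ⟨b, hb⟩ := IsLocalization.exist_integer_multiples_of_finite M x
    choose y hy using hb
    have h0 : ∀ l, algebraMap R S ((b : R) * v l) = algebraMap R S ((A (i + 1) *ᵥ y) l) := fun l => by
      rw [RingHom.map_mulVec, map_mul]
      have : algebraMap R S ∘ y = algebraMap R S b • x := funext fun q => by
        simp [hy q, Algebra.smul_def]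
      rw [this, Matrix.mulVec_smul, Pi.smul_apply, smul_eq_mul]
      congr 1
      exact (congr_fun hx l).symm
    choose c hc using fun l => (IsLocalization.eq_iff_exists M S).1 (h0 l)
    let c0 : M := ∏ l, c l
    refine ⟨(c0 : R) * b, mul_mem c0.2 b.2, ?_⟩
    rw [nxt_eq_range e n A h]
    refine ⟨(c0 : R) • y, funext fun l => ?_⟩
    obtain ⟨d, hd⟩ : (c l : R) ∣ (c0 : R) := by
      simp only [c0, Submonoid.coe_finsetProd]
      exact Finset.dvd_prod_of_mem _ (Finset.mem_univ l)
    rw [Matrix.mulVecLin_apply, Matrix.mulVec_smul]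
    simp only [Pi.smul_apply, smul_eq_mul, hd]
    linear_combination (-d) * hc l
  · rw [nxt_eq_bot e n _ (by omega), Submodule.mem_bot] at hv
    choose c hc using fun l => (IsLocalization.map_eq_zero_iff M S (v l)).1 (congr_fun hv l)
    let c0 : M := ∏ l, c l
    refine ⟨c0, c0.2, ?_⟩
    rw [nxt_eq_bot e n A (by omega), Submodule.mem_bot]
    funext l
    obtain ⟨d, hd⟩ : (c l : R) ∣ (c0 : R) := by
      simp only [c0, Submonoid.coe_finsetProd]
      exact Finset.dvd_prod_of_mem _ (Finset.mem_univ l)
    rw [Pi.smul_apply, smul_eq_mul, hd, mul_right_comm, hc l, zero_mul, Pi.zero_apply]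

lemma exists_lift_ker {i : ℕ} {v : Fin (n (i + 1)) → S}
    (hv : v ∈ LinearMap.ker (mapCx n A S i).mulVecLin) :
    ∃ (s : M) (w : Fin (n (i + 1)) → R), w ∈ LinearMap.ker (A i).mulVecLin ∧
      algebraMap R S ∘ w = algebraMap R S s • v := by
  classical
  obtain ⟨b, hb⟩ := IsLocalization.exist_integer_multiples_of_finite M v
  choose w hw using hb
  have hw' : algebraMap R S ∘ w = algebraMap R S b • v := funext fun q => by
    simp [hw q, Algebra.smul_def]
  have h0 : ∀ l, algebraMap R S ((A i *ᵥ w) l) = 0 := fun l => by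
    rw [RingHom.map_mulVec, hw', Matrix.mulVec_smul]
    rw [LinearMap.mem_ker, Matrix.mulVecLin_apply] at hv
    rw [hv, smul_zero, Pi.zero_apply]
  choose c hc using fun l => (IsLocalization.map_eq_zero_iff M S _).1 (h0 l)
  let c0 : M := ∏ l, c l
  refine ⟨c0 * b, (c0 : R) • w, ?_, ?_⟩
  · rw [LinearMap.mem_ker, map_smul]
    funext l
    obtain ⟨d, hd⟩ : (c l : R) ∣ (c0 : R) := by
      simp only [c0, Submonoid.coe_finsetProd]
      exact Finset.dvd_prod_of_mem _ (Finset.mem_univ l)
    rw [Pi.smul_apply, smul_eq_mul, hd, mul_right_comm, Pi.zero_apply, Matrix.mulVecLin_apply,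
      hc l, zero_mul]
  · funext q
    have := congr_fun hw' q
    simp only [Function.comp_apply, Pi.smul_apply, smul_eq_mul] at this ⊢
    rw [map_mul, this, Submonoid.coe_mul, map_mul, mul_assoc]

include M in
theorem isExact_map (h : IsExact e n A) : IsExact e n (mapCx n A S) := by
  intro i hi
  by_cases hn : i + 1 < e
  · rw [nxt_eq_range e n _ hn]
    exact exact_map M S _ _ ((h i hi).trans (nxt_eq_range e n A hn))
  · rw [nxt_eq_bot e n _ (by omega)]
    have h0 : LinearMap.ker (A i).mulVecLin =
        LinearMap.range (0 : Matrix (Fin (n (i + 1))) (Fin 0) R).mulVecLin := by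
      rw [h i hi, nxt_eq_bot e n A (by omega), Matrix.mulVecLin_zero, LinearMap.range_zero]
    rw [exact_map M S _ _ h0, Matrix.map_zero _ (map_zero _), Matrix.mulVecLin_zero,
      LinearMap.range_zero]

end Loc

/-- An ideal of a local ring all of whose primes are maximal contains a power of the maximal
ideal. -/
lemma exists_pow_le_of_forall_prime {R : Type u} [CommRing R] [IsNoetherianRing R] [IsLocalRing R]
    (J : Ideal R) (h : ∀ Q : Ideal R, Q.IsPrime → J ≤ Q → Q = maximalIdeal R) :
    ∃ N, maximalIdeal R ^ N ≤ J := by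
  refine Ideal.exists_pow_le_of_le_radical_of_fg ?_ (IsNoetherian.noetherian _)
  rw [Ideal.radical_eq_sInf]
  exact le_sInf fun Q hQ => (h Q hQ.2 hQ.1).ge

/-- Sufficiency in the Buchsbaum–Eisenbud criterion. -/
theorem isExact_of_rank {R : Type u} [CommRing R] [IsNoetherianRing R] (e : ℕ) (n : ℕ → ℕ)
    (A : (i : ℕ) → Matrix (Fin (n i)) (Fin (n (i + 1))) R)
    (hA : ∀ i, i + 2 ≤ e → A i * A (i + 1) = 0)
    (r : ℕ → ℕ) (hr : ∀ i, i < e → (r i : ℤ) = rk e n i)
    (hbot : ∀ i, i < e → minorIdeal (A i) (r i + 1) = ⊥)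
    (hdet : ∀ i, i < e → minorIdeal (A i) (r i) = ⊤ ∨ ∃ rs : List R, rs.length = i + 1 ∧
      (∀ x ∈ rs, x ∈ minorIdeal (A i) (r i)) ∧ IsWeaklyRegular R rs) :
    IsExact e n A := by
  classical
  suffices key : ∀ (N : ℕ) (p : Ideal R) [p.IsPrime], p.height = N → ∀ i, i < e →
      ∀ w ∈ LinearMap.ker (A i).mulVecLin, ∃ t ∉ p, t • w ∈ nxt e n A i by
    intro i hi
    refine le_antisymm (fun w hw => ?_) (nxt_le_ker e n A hA i)
    let J : Ideal R := (nxt e n A i).colon {w}
    by_contra hne
    obtain ⟨m, hm, hJm⟩ := Ideal.exists_le_maximal J (fun hJ => hne (by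
      have : (1 : R) ∈ J := hJ ▸ trivial
      simpa [J, Submodule.mem_colon_singleton] using this))
    obtain ⟨N, hN⟩ := WithTop.ne_top_iff_exists.1 (m.height_ne_top hm.ne_top)
    obtain ⟨t, ht, htw⟩ := key N m hN.symm i hi w hw
    exact ht (hJm (Submodule.mem_colon_singleton.2 htw))
  intro N
  induction N using Nat.strong_induction_on with
  | _ N ih =>
  intro p _ hp i hi w hw
  let S := Localization.AtPrime p
  have hne : maximalIdeal S • (⊤ : Submodule S S) ≠ ⊤ :=
    Depth.smul_top_ne_top_self (IsLocalRing.maximalIdeal.isMaximal S).ne_top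
  obtain ⟨D, hD⟩ := Depth.exists_natCast_eq_idealDepth hne
  have hexact : IsExact e n (mapCx n A S) := by
    refine isExact_of_punctured e n _ D hD.ge ?_
      (fun j _ => nxt_le_ker e n _ (mapCx_mul e n A S hA) j) ?_
    · intro j hj hDj
      refine exact_at_of_rankUnit e n _ (mapCx_mul e n A S hA) r hr hj fun k hjk hk => ⟨?_, ?_⟩
      · rw [← minorIdeal_map, hbot k hk, Ideal.map_bot]
      · rw [← minorIdeal_map]
        rcases hdet k hk with h | ⟨rs, hlen, hmem, hreg⟩
        · rw [h, Ideal.map_top]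
        by_contra hne'
        have hsub : minorIdeal (A k) (r k) ≤ p := fun x hx =>
          (Localization.AtPrime.under_maximalIdeal (I := p)).le
            (IsLocalRing.le_maximalIdeal hne' (Ideal.mem_map_of_mem _ hx))
        have h1 := Depth.le_idealDepth_of_isWeaklyRegular (I := maximalIdeal S)
          (hreg.of_isLocalization S p.primeCompl) (by
            intro x hx
            obtain ⟨y, hy, rfl⟩ := List.mem_map.1 hx
            rw [← Localization.AtPrime.map_eq_maximalIdeal]
            exact Ideal.mem_map_of_mem _ (hsub (hmem y hy)))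
        rw [List.length_map, hlen, hD, Nat.cast_le] at h1
        omega
    · intro j hj v hv
      obtain ⟨s, u, hu, hsu⟩ := exists_lift_ker n A p.primeCompl S hv
      let J : Ideal R := (nxt e n A j).colon {u}
      obtain ⟨N', hN'⟩ := exists_pow_le_of_forall_prime (J.map (algebraMap R S)) (by
        intro Q hQ hJQ
        have hle : Q.comap (algebraMap R S) ≤ p :=
          (Ideal.comap_mono (IsLocalRing.le_maximalIdeal hQ.ne_top)).trans
            (Localization.AtPrime.under_maximalIdeal (I := p)).le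
        rcases hle.lt_or_eq with hlt | heq
        · exfalso
          obtain ⟨N₀, hN₀⟩ := WithTop.ne_top_iff_exists.1
            ((Q.comap (algebraMap R S)).height_ne_top (Ideal.IsPrime.ne_top (Ideal.IsPrime.comap _)))
          have hlt' : N₀ < N := by
            have := Ideal.height_strict_mono_of_isPrime_of_isPrime hlt
            rw [hp, ← hN₀] at this
            exact WithTop.coe_lt_coe.1 this
          obtain ⟨t, ht, htu⟩ := ih N₀ hlt' (Q.comap (algebraMap R S)) hN₀.symm j hj u hu
          exact ht (hJQ (Ideal.mem_map_of_mem _ (Submodule.mem_colon_singleton.2 htu)))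
        · refine (IsLocalization.map_comap p.primeCompl S Q).symm.trans ?_
          rw [show Ideal.under R Q = p from heq, Localization.AtPrime.map_eq_maximalIdeal])
      refine ⟨N', fun x hx => ?_⟩
      have h2 : x • (algebraMap R S ∘ u) ∈ nxt e n (mapCx n A S) j := by
        refine Submodule.span_induction ?_ (by simp) (fun a b _ _ ha hb => by
          rw [add_smul]; exact add_mem ha hb) (fun c a _ ha => by
          rw [smul_eq_mul, mul_smul]; exact Submodule.smul_mem _ _ ha) (hN' hx)
        rintro _ ⟨t, ht, rfl⟩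
        have h3 := algebraMap_mem_nxt e n A S (Submodule.mem_colon_singleton.1 ht)
        convert h3 using 1
        funext q
        simp
      rw [hsu, smul_comm] at h2
      have hs := IsLocalization.map_units S s
      have h4 := Submodule.smul_mem (nxt e n (mapCx n A S) j) (↑hs.unit⁻¹ : S) h2
      rwa [smul_smul, IsUnit.val_inv_mul, one_smul] at h4
  have hw' : algebraMap R S ∘ w ∈ LinearMap.ker (mapCx n A S i).mulVecLin := by
    rw [LinearMap.mem_ker, Matrix.mulVecLin_apply]
    funext l
    rw [← RingHom.map_mulVec]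
    rw [LinearMap.mem_ker, Matrix.mulVecLin_apply] at hw
    rw [hw, Pi.zero_apply, map_zero, Pi.zero_apply]
  rw [hexact i hi] at hw'
  obtain ⟨t, ht, htw⟩ := exists_smul_mem_nxt e n A p.primeCompl S hw'
  exact ⟨t, ht, htw⟩

end Groth.Agent.McCoy
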