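import Groth.Agent.McCoy.BE

/-!
# Necessity in the Buchsbaum–Eisenbud criterion
-/

noncomputable section

universe u

open CAlgX Matrix IsLocalRing RingTheory.Sequence

namespace Groth.Agent.McCoy

/-- Over a local ring with a socle an exact complex is split, with the expected ranks. -/
theorem rankUnit_of_socle {R : Type u} [CommRing R] [IsLocalRing R] (e : ℕ) (n : ℕ → ℕ)
    (A : (i : ℕ) → Matrix (Fin (n i)) (Fin (n (i + 1))) R) (h : IsExact e n A)
    {s : R} (hs : s ≠ 0) (hsm : ∀ x ∈ maximalIdeal R, x * s = 0) :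
    ∀ i, i < e → ∃ r : ℕ, (r : ℤ) = rk e n i ∧ RankUnit (A i) r := by
  suffices key : ∀ k i, i + k + 1 = e → ∃ r : ℕ, (r : ℤ) = rk e n i ∧
      Module.Free R (LinearMap.range (A i).mulVecLin) ∧
      Module.finrank R (LinearMap.range (A i).mulVecLin) = r by
    intro i hi
    obtain ⟨r, hr, hfree, hrk⟩ := key (e - 1 - i) i (by omega)
    haveI : Module.Finite R (LinearMap.range (A i).mulVecLin) := Module.Finite.range _
    haveI := (free_quotient hs hsm (LinearMap.range (A i).mulVecLin)).1
    exact ⟨r, hr, rankUnit_of_free (A i) hrk⟩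
  intro k
  induction k with
  | zero =>
    intro i hi
    have h0 := (h i (by omega)).trans (nxt_eq_bot e n A (by omega))
    let eqv := LinearEquiv.ofInjective _ (LinearMap.ker_eq_bot.1 h0)
    refine ⟨n (i + 1), ?_, Module.Free.of_equiv eqv,
      eqv.finrank_eq.symm.trans (Module.finrank_fin_fun _)⟩
    have := rk_rec e n (show i < e by omega)
    rw [rk_of_le e n (i := i + 1) (by omega)] at this
    omega
  | succ k ih =>
    intro i hi
    obtain ⟨r', hr', hfree, hrk⟩ := ih (i + 1) (by omega)
    haveI : Module.Finite R (LinearMap.range (A (i + 1)).mulVecLin) := Module.Finite.range _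
    obtain ⟨hQ, hQr⟩ := free_quotient hs hsm (LinearMap.range (A (i + 1)).mulVecLin)
    have h1 : LinearMap.ker (A i).mulVecLin = LinearMap.range (A (i + 1)).mulVecLin :=
      (h i (by omega)).trans (nxt_eq_range e n A (by omega))
    let eqv := (Submodule.quotEquivOfEq _ _ h1.symm).trans (A i).mulVecLin.quotKerEquivRange
    refine ⟨n (i + 1) - r', ?_, Module.Free.of_equiv eqv, eqv.finrank_eq.symm.trans (by omega)⟩
    have := rk_rec e n (show i < e by omega)
    omega

/-- An exact complex has the expected ranks. -/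
theorem exists_rank_of_isExact {R : Type u} [CommRing R] [IsNoetherianRing R] [Nontrivial R]
    (e : ℕ) (n : ℕ → ℕ) (A : (i : ℕ) → Matrix (Fin (n i)) (Fin (n (i + 1))) R)
    (h : IsExact e n A) {i : ℕ} (hi : i < e) :
    ∃ r : ℕ, (r : ℤ) = rk e n i ∧ minorIdeal (A i) (r + 1) = ⊥ ∧
      (minorIdeal (A i) r).annihilator = ⊥ := by
  classical
  have hassoc : ∀ q ∈ associatedPrimes R R, IsAssoc q := by
    intro q hq
    obtain ⟨hpr, c, hc⟩ := isAssociatedPrime_iff.1 hq
    refine ⟨hpr, c, fun x => ?_⟩
    rw [hc, Submodule.mem_colon_singleton, Submodule.mem_bot, smul_eq_mul]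
  have key : ∀ q ∈ associatedPrimes R R, ∀ [q.IsPrime], ∃ r : ℕ, (r : ℤ) = rk e n i ∧
      RankUnit (mapCx n A (Localization.AtPrime q) i) r := by
    intro q hq _
    obtain ⟨s, hs, hsm⟩ := exists_socle (hassoc q hq)
    exact rankUnit_of_socle e n _ (isExact_map e n A q.primeCompl (Localization.AtPrime q) h) hs hsm
      i hi
  obtain ⟨q0, hq0⟩ := associatedPrimes.nonempty R R
  haveI := hq0.isPrime
  obtain ⟨r, hr, -⟩ := key q0 hq0
  refine ⟨r, hr, ?_, ?_⟩
  · rw [eq_bot_iff]
    intro x hx
    by_contra hne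
    obtain ⟨q, hq, hle⟩ := exists_le_isAssociatedPrime_of_isNoetherianRing R x (by simpa using hne)
    haveI := hq.isPrime
    obtain ⟨r', hr', hbot, -⟩ := key q hq
    obtain rfl : r' = r := by omega
    have h1 : algebraMap R (Localization.AtPrime q) x ∈ minorIdeal (mapCx n A _ i) (r' + 1) := by
      rw [← minorIdeal_map]; exact Ideal.mem_map_of_mem _ hx
    rw [hbot, Submodule.mem_bot, IsLocalization.map_eq_zero_iff q.primeCompl] at h1
    obtain ⟨t, ht⟩ := h1
    exact t.2 (hle (Submodule.mem_colon_singleton.2 (by simpa using ht)))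
  · rw [eq_bot_iff]
    intro c hc
    by_contra hne
    obtain ⟨q, hq, hle⟩ := exists_le_isAssociatedPrime_of_isNoetherianRing R c (by simpa using hne)
    haveI := hq.isPrime
    obtain ⟨r', hr', -, htop⟩ := key q hq
    obtain rfl : r' = r := by omega
    rw [← minorIdeal_map] at htop
    refine (IsLocalization.map_algebraMap_ne_top_iff_disjoint q.primeCompl
      (Localization.AtPrime q) (minorIdeal (A i) r')).2 ?_ htop
    rw [Set.disjoint_left]
    intro y hy hy'
    refine hy (hle (Submodule.mem_colon_singleton.2 ?_))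
    simpa [mul_comm] using Submodule.mem_annihilator.1 hc y hy'

/-- Exactness forces depth. -/
theorem exists_seq : ∀ (i : ℕ) (R : Type u) [CommRing R] [IsNoetherianRing R] [IsLocalRing R]
    (e : ℕ) (n : ℕ → ℕ) (A : (j : ℕ) → Matrix (Fin (n j)) (Fin (n (j + 1))) R),
    IsExact e n A → i < e → ∀ r : ℕ, (r : ℤ) = rk e n i → minorIdeal (A i) r ≠ ⊤ →
    ∃ rs : List R, rs.length = i + 1 ∧ (∀ x ∈ rs, x ∈ maximalIdeal R) ∧ IsWeaklyRegular R rs := by
  intro i
  induction i with
  | zero =>
    intro R _ _ _ e n A h hi r hr hne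
    by_contra hnot
    push Not at hnot
    obtain ⟨s, hs, hsm⟩ := exists_annihilator_of_forall (maximalIdeal R) (fun x hx hxreg => by
      refine hnot [x] rfl (by simpa using hx) ((isWeaklyRegular_singleton_iff R x).2 ?_)
      exact isSMulRegular_iff_right_eq_zero_of_smul.2 fun y hy =>
        mem_nonZeroDivisors_iff_right.1 hxreg y (by rwa [mul_comm]))
    obtain ⟨r', hr', -, htop⟩ := rankUnit_of_socle e n A h hs
      (fun x hx => by rw [mul_comm]; exact hsm x hx) 0 hi
    obtain rfl : r' = r := by omega
    exact hne htop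
  | succ i ih =>
    intro R _ _ _ e n A h hi r hr hne
    obtain ⟨x, hx, hxreg⟩ : ∃ x ∈ maximalIdeal R, x ∈ nonZeroDivisors R := by
      by_contra hnot
      push Not at hnot
      obtain ⟨s, hs, hsm⟩ := exists_annihilator_of_forall (maximalIdeal R) hnot
      obtain ⟨r', hr', -, htop⟩ := rankUnit_of_socle e n A h hs
        (fun x hx => by rw [mul_comm]; exact hsm x hx) (i + 1) hi
      obtain rfl : r' = r := by omega
      exact hne htop
    obtain ⟨e', rfl⟩ : ∃ e', e = e' + 1 := ⟨e - 1, by omega⟩
    let mk := Ideal.Quotient.mk (Ideal.span {x})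
    haveI : Nontrivial (R ⧸ Ideal.span {x}) := Ideal.Quotient.nontrivial_iff.2
      (ne_top_of_le_ne_top (maximalIdeal.isMaximal R).ne_top
        (by rwa [Ideal.span_singleton_le_iff_mem]))
    haveI : IsLocalRing (R ⧸ Ideal.span {x}) :=
      IsLocalRing.of_surjective' mk Ideal.Quotient.mk_surjective
    have hxr : ∀ {k : ℕ} (z : Fin k → R), x • z = 0 → z = 0 := fun z hz => funext fun q =>
      mem_nonZeroDivisors_iff_right.1 hxreg (z q) (by
        rw [mul_comm]; exact congr_fun hz q)
    let n' : ℕ → ℕ := fun k => n (k + 1)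
    let A' : (j : ℕ) → Matrix (Fin (n' j)) (Fin (n' (j + 1))) (R ⧸ Ideal.span {x}) :=
      fun j => (A (j + 1)).map mk
    have hex' : IsExact e' n' A' := by
      intro j hj
      refine le_antisymm (fun v hv => ?_) ?_
      · choose w hw using fun q => Ideal.Quotient.mk_surjective (v q)
        obtain rfl : mk ∘ w = v := funext hw
        have hz : ∀ q, x ∣ (A (j + 1) *ᵥ w) q := fun q => by
          rw [← Ideal.mem_span_singleton, ← Ideal.Quotient.eq_zero_iff_mem, RingHom.map_mulVec]
          exact congr_fun hv q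
        choose z hz using hz
        have hz' : A (j + 1) *ᵥ w = x • z := funext hz
        have hAz : A j *ᵥ z = 0 := hxr _ (by
          rw [← Matrix.mulVec_smul, ← hz']
          have : A (j + 1) *ᵥ w ∈ LinearMap.ker (A j).mulVecLin := by
            rw [h j (by omega), nxt_eq_range _ n A (by omega)]
            exact ⟨w, rfl⟩
          exact this)
        obtain ⟨u, hu⟩ : z ∈ LinearMap.range (A (j + 1)).mulVecLin := by
          rw [← nxt_eq_range _ n A (show j + 1 < e' + 1 by omega), ← h j (by omega)]
          exact hAz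
        have hker : w - x • u ∈ LinearMap.ker (A (j + 1)).mulVecLin := by
          rw [LinearMap.mem_ker, map_sub, map_smul, hu, Matrix.mulVecLin_apply, hz', sub_self]
        rw [h (j + 1) (by omega)] at hker
        have hmk : mk ∘ w = mk ∘ (w - x • u) := funext fun q => by
          have hx0 : mk x = 0 := Ideal.Quotient.eq_zero_iff_mem.2 (Ideal.mem_span_singleton_self x)
          simp [hx0]
        rw [hmk]
        by_cases hn : j + 1 < e'
        · rw [nxt_eq_range _ n A (by omega)] at hker
          obtain ⟨y, hy⟩ := hker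
          rw [nxt_eq_range _ n' A' hn]
          refine ⟨mk ∘ y, ?_⟩
          rw [← hy]
          exact funext fun q => (RingHom.map_mulVec mk _ y q).symm
        · rw [nxt_eq_bot _ n A (by omega), Submodule.mem_bot] at hker
          rw [hker, show mk ∘ (0 : Fin (n (j + 1 + 1)) → R) = 0 from funext fun _ => map_zero _]
          exact zero_mem _
      · refine nxt_le_ker e' n' A' (fun k hk => ?_) j
        have hk2 : A (k + 1) * A (k + 2) = 0 := by
          ext a b
          have : A (k + 2) *ᵥ Pi.single b 1 ∈ LinearMap.ker (A (k + 1)).mulVecLin := by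
            rw [h (k + 1) (by omega), nxt_eq_range _ n A (by omega)]
            exact ⟨Pi.single b 1, rfl⟩
          rw [LinearMap.mem_ker, Matrix.mulVecLin_apply, Matrix.mulVec_mulVec,
            Matrix.mulVec_single_one] at this
          exact congr_fun this a
        change (A (k + 1)).map mk * (A (k + 2)).map mk = 0
        rw [← Matrix.map_mul, hk2, Matrix.map_zero _ (map_zero _)]
    have hne' : minorIdeal (A' i) r ≠ ⊤ := by
      intro htop
      rw [← minorIdeal_map, Ideal.eq_top_iff_one,
        Ideal.mem_map_iff_of_surjective mk Ideal.Quotient.mk_surjective] at htop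
      obtain ⟨y, hy, hy1⟩ := htop
      rw [← map_one mk, Ideal.Quotient.eq] at hy1
      have hy' : y ∈ maximalIdeal R := le_maximalIdeal hne hy
      have hy2 : y - 1 ∈ maximalIdeal R := (Ideal.span_singleton_le_iff_mem _).2 hx hy1
      exact (maximalIdeal.isMaximal R).ne_top ((Ideal.eq_top_iff_one _).2
        (by simpa using sub_mem hy' hy2))
    obtain ⟨rs', hlen, hmem, hreg⟩ := ih _ e' n' A' hex' (by omega) r
      (hr.trans (rk_shift e' n i).symm) hne'
    choose g hg using Ideal.Quotient.mk_surjective (I := Ideal.span {x})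
    refine ⟨x :: rs'.map g, by simp [hlen], ?_, ?_⟩
    · intro y hy
      rcases List.mem_cons.1 hy with rfl | hy
      · exact hx
      · obtain ⟨y', hy', rfl⟩ := List.mem_map.1 hy
        by_contra hunit
        have h1 := (IsLocalRing.notMem_maximalIdeal.1 hunit).map mk
        rw [hg y'] at h1
        exact IsLocalRing.notMem_maximalIdeal.2 h1 (hmem y' hy')
    · rw [isWeaklyRegular_cons_iff']
      refine ⟨isSMulRegular_iff_right_eq_zero_of_smul.2 fun y hy =>
        mem_nonZeroDivisors_iff_right.1 hxreg y (by rwa [mul_comm]), ?_⟩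
      rw [List.map_map, show Ideal.Quotient.mk (Ideal.span {x}) ∘ g = id from funext hg, List.map_id]
      let eqv : QuotSMulTop x R ≃ₗ[R] R ⧸ Ideal.span {x} := Submodule.quotEquivOfEq _ _ (by
        ext y
        rw [Submodule.mem_smul_pointwise_iff_exists, Ideal.mem_span_singleton']
        constructor
        · rintro ⟨b, -, rfl⟩; exact ⟨b, mul_comm _ _⟩
        · rintro ⟨a, rfl⟩; exact ⟨a, trivial, mul_comm _ _⟩)
      refine (LinearEquiv.isWeaklyRegular_congr (eqv.extendScalarsOfSurjective
        Ideal.Quotient.mk_surjective) rs').2 hreg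

/-- Exactness forces the depth of the determinantal ideals. -/
theorem le_idealDepth_of_isExact {R : Type u} [CommRing R] [IsNoetherianRing R]
    (e : ℕ) (n : ℕ → ℕ) (A : (i : ℕ) → Matrix (Fin (n i)) (Fin (n (i + 1))) R)
    (h : IsExact e n A) {i : ℕ} (hi : i < e) {r : ℕ} (hr : (r : ℤ) = rk e n i)
    (hne : minorIdeal (A i) r ≠ ⊤) :
    ((i + 1 : ℕ) : ℕ∞) ≤ LocCoh.idealDepth (minorIdeal (A i) r) R := by
  have hne' := Depth.smul_top_ne_top_self hne
  obtain ⟨N, hN⟩ := Depth.exists_natCast_eq_idealDepth hne'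
  obtain ⟨p, hp, -, hdepth⟩ := Depth.exists_depth_atPrime_eq_idealDepth R hne' hN
  let S := Localization.AtPrime p.asIdeal
  have hneS : minorIdeal (mapCx n A S i) r ≠ ⊤ := by
    rw [← minorIdeal_map]
    exact (IsLocalization.map_algebraMap_ne_top_iff_disjoint p.asIdeal.primeCompl S _).2
      (Set.disjoint_left.2 fun y hy hy' => hy (hp hy'))
  obtain ⟨rs, hlen, hmem, hreg⟩ :=
    exists_seq i S e n _ (isExact_map e n A p.asIdeal.primeCompl S h) hi r hr hneS
  rw [hN, ← hdepth, Depth.depth_congr ((IsLocalizedModule.iso p.asIdeal.primeCompl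
    (Algebra.linearMap R S)).extendScalarsOfIsLocalization p.asIdeal.primeCompl S)]
  rw [← hlen]
  exact Depth.le_idealDepth_of_isWeaklyRegular hreg hmem

end Groth.Agent.McCoy
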