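import Groth.Prelude.Def_CAlgX
import Mathlib.LinearAlgebra.Matrix.NonsingularInverse
import Mathlib.LinearAlgebra.Matrix.ToLin
import Mathlib.LinearAlgebra.Determinant
import Mathlib.RingTheory.Ideal.AssociatedPrime.Finiteness
import Mathlib.RingTheory.Ideal.Operations
import Mathlib.RingTheory.Regular.RegularSequence

/-!
# McCoy's theorem on injective matrices
-/

noncomputable section

universe u

open CAlgX Matrix

namespace Groth.Agent.McCoy

variable {R : Type u} [CommRing R] {n m : ℕ}

/-- A minor times a kernel vector is zero. -/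
theorem det_mul_eq_zero (A : Matrix (Fin n) (Fin m) R) (f : Fin m → Fin n) (g : Fin m → Fin m)
    {x : Fin m → R} (hx : A *ᵥ x = 0) (j : Fin m) : (A.submatrix f g).det * x j = 0 := by
  by_cases hg : Function.Bijective g
  · let e := Equiv.ofBijective g hg
    have h1 : (A.submatrix f g) *ᵥ (x ∘ g) = 0 := by
      funext i
      have := congr_fun hx (f i)
      simp only [Matrix.mulVec, dotProduct, Pi.zero_apply, submatrix_apply,
        Function.comp_apply] at this ⊢
      rw [← this]
      exact Equiv.sum_comp e (fun k => A (f i) k * x k)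
    have h2 := congr_arg ((A.submatrix f g).adjugate *ᵥ ·) h1
    simp only [Matrix.mulVec_mulVec, Matrix.adjugate_mul, Matrix.mulVec_zero, Matrix.smul_mulVec,
      Matrix.one_mulVec] at h2
    obtain ⟨k, rfl⟩ := hg.2 j
    simpa using congr_fun h2 k
  · have : ¬ Function.Injective g := fun h => hg (Finite.injective_iff_bijective.1 h)
    simp only [Function.Injective, not_forall] at this
    obtain ⟨a, b, hab, hne⟩ := this
    rw [Matrix.det_zero_of_column_eq hne (fun i => by simp [hab]), zero_mul]

/-- If `a` kills all maximal minors and is nonzero, the matrix is not injective. -/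
theorem exists_ker_of_annihilator (A : Matrix (Fin n) (Fin m) R) {a : R} (ha : a ≠ 0)
    (h : ∀ (f : Fin m → Fin n) (g : Fin m → Fin m), a * (A.submatrix f g).det = 0) :
    ∃ x : Fin m → R, x ≠ 0 ∧ A *ᵥ x = 0 := by
  classical
  let P : ℕ → Prop := fun r => ∃ (f : Fin r → Fin n) (g : Fin r → Fin m),
    a * (A.submatrix f g).det ≠ 0
  have hP0 : P 0 := ⟨Fin.elim0, Fin.elim0, by simpa using ha⟩
  have hPm : ¬ P m := fun ⟨f, g, hfg⟩ => hfg (h f g)
  have hex : ∃ r, P r ∧ ¬ P (r + 1) ∧ r < m := by
    by_contra hne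
    push Not at hne
    have : ∀ r, r ≤ m → P r := by
      intro r
      induction r with
      | zero => exact fun _ => hP0
      | succ r ih =>
        intro hr
        by_contra hr'
        exact absurd (hne r (ih (by omega)) hr') (by omega)
    exact hPm (this m le_rfl)
  obtain ⟨r, ⟨f, g, hfg⟩, hnot, hrm⟩ := hex
  have hg : Function.Injective g := by
    intro p q hpq
    by_contra hne
    exact hfg (by rw [Matrix.det_zero_of_column_eq hne (fun i => by simp [hpq]), mul_zero])
  obtain ⟨j0, hj0⟩ : ∃ j0, j0 ∉ Set.range g := by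
    by_contra hall
    push Not at hall
    have := Fintype.card_le_of_surjective g hall
    simp at this; omega
  let g' : Fin (r + 1) → Fin m := Fin.cons j0 g
  let c : Fin (r + 1) → R := fun k => (-1) ^ (k : ℕ) *
    (A.submatrix f (g' ∘ k.succAbove)).det
  let x : Fin m → R := fun j => ∑ k, if g' k = j then a * c k else 0
  refine ⟨x, fun hx => hfg ?_, ?_⟩
  · have h0 := congr_fun hx j0
    simp only [x, Fin.sum_univ_succ, g', Fin.cons_zero, Fin.cons_succ, if_true, Pi.zero_apply] at h0
    rw [Finset.sum_eq_zero (fun i _ => if_neg fun hh => hj0 ⟨i, hh⟩), add_zero] at h0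
    simp only [c, Fin.val_zero, pow_zero, one_mul] at h0
    convert h0 using 5
    funext p
    simp [g']
  · funext i
    have hkey : ∑ k, A i (g' k) * (a * c k) = 0 := by
      have h1 : a * (A.submatrix (Fin.cons i f) g').det = 0 := by
        by_contra hne
        exact hnot ⟨_, _, hne⟩
      rw [Matrix.det_succ_row_zero, Finset.mul_sum] at h1
      rw [← h1]
      refine Finset.sum_congr rfl fun k _ => ?_
      simp only [c, Matrix.submatrix_apply, Fin.cons_zero, Matrix.submatrix_submatrix]
      rw [show (Fin.cons i f : Fin (r + 1) → Fin n) ∘ Fin.succ = f from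
        funext fun p => Fin.cons_succ ..]
      ring
    simp only [Matrix.mulVec, dotProduct, x, Finset.mul_sum, Pi.zero_apply]
    rw [Finset.sum_comm]
    simpa [mul_ite] using hkey

/-- McCoy: a matrix is injective iff the annihilator of its maximal minors is trivial. -/
theorem injective_iff (A : Matrix (Fin n) (Fin m) R) :
    Function.Injective A.mulVecLin ↔ (minorIdeal A m).annihilator = ⊥ := by
  rw [← LinearMap.ker_eq_bot, LinearMap.ker_eq_bot']
  constructor
  · intro h
    rw [eq_bot_iff]
    intro a ha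
    rw [Submodule.mem_annihilator] at ha
    by_contra hne
    obtain ⟨x, hx, hAx⟩ := exists_ker_of_annihilator A (a := a) (by simpa using hne)
      (fun f g => by simpa using ha _ (Ideal.subset_span ⟨(f, g), rfl⟩))
    exact hx (h x hAx)
  · intro h x hx
    funext j
    have : x j ∈ (minorIdeal A m).annihilator := by
      rw [CAlgX.minorIdeal, Submodule.mem_annihilator_span]
      rintro ⟨_, ⟨f, g⟩, rfl⟩
      rw [smul_eq_mul, mul_comm]
      exact det_mul_eq_zero A f g hx j
    rw [h] at this
    simpa using this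

theorem minorIdeal_eq_bot_of_lt (A : Matrix (Fin n) (Fin m) R) {r : ℕ} (hr : n < r ∨ m < r) :
    minorIdeal A r = ⊥ := by
  rw [CAlgX.minorIdeal, Ideal.span_eq_bot]
  rintro _ ⟨⟨f, g⟩, rfl⟩
  rcases hr with hr | hr
  · obtain ⟨p, q, hne, hpq⟩ := Fintype.exists_ne_map_eq_of_card_lt f (by simpa using hr)
    exact Matrix.det_zero_of_row_eq hne (by ext; simp [hpq])
  · obtain ⟨p, q, hne, hpq⟩ := Fintype.exists_ne_map_eq_of_card_lt g (by simpa using hr)
    exact Matrix.det_zero_of_column_eq hne (fun i => by simp [hpq])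

theorem minorIdeal_zero (A : Matrix (Fin n) (Fin m) R) : minorIdeal A 0 = ⊤ := by
  rw [CAlgX.minorIdeal, Ideal.eq_top_iff_one]
  exact Ideal.subset_span ⟨(Fin.elim0, Fin.elim0), by simp⟩

theorem bddAbove_minor (A : Matrix (Fin n) (Fin m) R) :
    BddAbove {r : ℕ | minorIdeal A r ≠ ⊥} :=
  ⟨m, fun r hr => not_lt.1 fun h => hr (minorIdeal_eq_bot_of_lt A (Or.inr h))⟩

variable [Nontrivial R]

theorem matrixRank_eq_of_annihilator {A : Matrix (Fin n) (Fin m) R}
    (h : (minorIdeal A m).annihilator = ⊥) : matrixRank A = m := by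
  have hne : minorIdeal A m ≠ ⊥ := by
    intro hb
    rw [hb, Submodule.annihilator_bot] at h
    exact top_ne_bot h
  refine le_antisymm (csSup_le ⟨m, hne⟩ fun r hr =>
    not_lt.1 fun h' => hr (minorIdeal_eq_bot_of_lt A (Or.inr h'))) (le_csSup (bddAbove_minor A) hne)

theorem le_of_injective {A : Matrix (Fin n) (Fin m) R} (h : Function.Injective A.mulVecLin) :
    m ≤ n := by
  by_contra hlt
  have h' := (injective_iff A).1 h
  rw [minorIdeal_eq_bot_of_lt A (Or.inl (by omega)), Submodule.annihilator_bot] at h'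
  exact top_ne_bot h'

omit [Nontrivial R]

/-- In a Noetherian ring an ideal without non-zero-divisors is killed by a nonzero element. -/
theorem exists_annihilator_of_forall [IsNoetherianRing R] (I : Ideal R)
    (h : ∀ x ∈ I, x ∉ nonZeroDivisors R) : ∃ c : R, c ≠ 0 ∧ ∀ x ∈ I, c * x = 0 := by
  have hsub : (I : Set R) ⊆ ⋃ p ∈ associatedPrimes R R, ((p : Ideal R) : Set R) := by
    rw [biUnion_associatedPrimes_eq_compl_nonZeroDivisors]
    exact fun x hx => h x hx
  obtain ⟨p, hp, hIp⟩ := (Ideal.subset_union_prime_finite (associatedPrimes.finite R R) ⊤ ⊤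
    (fun p hp _ _ => hp.isPrime)).1 hsub
  obtain ⟨hpr, c, hc⟩ := isAssociatedPrime_iff.1 hp
  refine ⟨c, fun hc0 => hpr.ne_top ?_, fun x hx => ?_⟩
  · rw [hc, hc0]
    simp
  · have := hIp hx
    rw [hc, Submodule.mem_colon_singleton, Submodule.mem_bot, smul_eq_mul] at this
    rwa [mul_comm]

theorem exists_nonZeroDivisor_of_annihilator [IsNoetherianRing R] {I : Ideal R}
    (h : I.annihilator = ⊥) : ∃ a ∈ I, a ∈ nonZeroDivisors R := by
  by_contra hne
  push Not at hne
  obtain ⟨c, hc, hcI⟩ := exists_annihilator_of_forall I hne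
  refine hc ?_
  have : c ∈ I.annihilator := Submodule.mem_annihilator.2 fun x hx => hcI x hx
  simpa [h] using this

theorem annihilator_eq_bot_of_mem {I : Ideal R} {a : R} (ha : a ∈ I)
    (ha' : a ∈ nonZeroDivisors R) : I.annihilator = ⊥ := by
  rw [eq_bot_iff]
  intro c hc
  have := Submodule.mem_annihilator.1 hc a ha
  simpa using (mem_nonZeroDivisors_iff_right.1 ha') c this

end Groth.Agent.McCoy
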