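import Groth.Agent.McCoy.Split
import Mathlib.RingTheory.Smooth.Basic
import Mathlib.RingTheory.MvPolynomial.Homogeneous
import Mathlib.RingTheory.Nakayama
import Mathlib.RingTheory.Polynomial.Basic
import Mathlib.RingTheory.Localization.AtPrime.Basic

/-!
# Smooth points of generic determinantal varieties
-/

noncomputable section

universe u

open CAlgX Matrix

namespace Groth.Agent.McCoy

variable {R : Type u} [CommRing R] {n m r : ℕ}

/-- If all minors of size `r + 1` vanish, the entries are recovered from an `r × r` minor. -/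
theorem bordered {A : Matrix (Fin n) (Fin m) R}
    (h0 : ∀ (f : Fin (r + 1) → Fin n) (g : Fin (r + 1) → Fin m), (A.submatrix f g).det = 0)
    (f : Fin r → Fin n) (g : Fin r → Fin m) (hu : IsUnit (A.submatrix f g).det) :
    A.submatrix id g * (A.submatrix f g)⁻¹ * A.submatrix f id = A := by
  classical
  set S := A.submatrix f g with hS
  ext i j
  let C : Matrix (Fin n) (Fin r) R := A.submatrix id g
  set x := S⁻¹ *ᵥ fun p => A (f p) j with hx
  have hx' : S *ᵥ x = fun p => A (f p) j := by
    rw [hx, Matrix.mulVec_mulVec, Matrix.mul_nonsing_inv _ hu, Matrix.one_mulVec]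
  let B : Matrix (Fin (r + 1)) (Fin (r + 1)) R := A.submatrix (Fin.cons i f) (Fin.cons j g)
  have hB : B.det = 0 := h0 _ _
  have hy : B *ᵥ (Fin.cons (-1) x) =
      (Fin.cons ((C *ᵥ x) i - A i j) 0 : Fin (r + 1) → R) := by
    funext p
    induction p using Fin.cases with
    | zero =>
      simp [B, C, Matrix.mulVec, dotProduct, Fin.sum_univ_succ]
      ring
    | succ q =>
      have h3 := congr_fun hx' q
      simp only [Matrix.mulVec, dotProduct, hS, Matrix.submatrix_apply] at h3
      simp [B, Matrix.mulVec, dotProduct, Fin.sum_univ_succ, h3]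
  have h4 := congr_fun (congr_arg (B.adjugate.mulVec ·) hy) 0
  simp only [Matrix.mulVec_mulVec, Matrix.adjugate_mul, hB, zero_smul, Matrix.zero_mulVec,
    Pi.zero_apply] at h4
  rw [Matrix.mulVec, dotProduct, Fin.sum_univ_succ] at h4
  simp only [Fin.cons_zero, Fin.cons_succ, Pi.zero_apply, mul_zero, Finset.sum_const_zero,
    add_zero, Matrix.adjugate_fin_succ_eq_det_submatrix, Fin.val_zero, pow_zero, one_mul] at h4
  rw [show B.submatrix (Fin.succAbove 0) (Fin.succAbove 0) = S by ext; simp [B, hS]] at h4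
  rw [← sub_eq_zero.1 (hu.mul_right_eq_zero.1 h4.symm), Matrix.mul_assoc]
  simp only [C, x, Matrix.mul_apply, Matrix.mulVec, dotProduct, Matrix.submatrix_apply, id_eq]

/-- Minors of size `r + 1` of a product through `Fin r` vanish. -/
theorem det_submatrix_mul_eq_zero (C : Matrix (Fin n) (Fin r) R) (D : Matrix (Fin r) (Fin m) R)
    (f : Fin (r + 1) → Fin n) (g : Fin (r + 1) → Fin m) : ((C * D).submatrix f g).det = 0 := by
  let B' : Matrix (Fin (r + 1)) (Fin (r + 1)) R := Matrix.of fun p => Fin.cons 0 (C (f p))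
  let D' : Matrix (Fin (r + 1)) (Fin (r + 1)) R := Matrix.of (Fin.cons 0 (fun k p => D k (g p)))
  have : (C * D).submatrix f g = B' * D' := by
    ext p q
    simp [Matrix.mul_apply, Fin.sum_univ_succ, B', D']
  rw [this, Matrix.det_mul, Matrix.det_eq_zero_of_column_eq_zero 0 (fun p => by simp [B']), zero_mul]

/-- Two congruent matrices with vanishing minors of size `r` have determinants congruent modulo
`J * M`. -/
theorem det_sub_det_mem {J M : Ideal R} (hJM : J ≤ M) (P Q : Matrix (Fin (r + 1)) (Fin (r + 1)) R)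
    (hPQ : ∀ i j, Q i j - P i j ∈ J)
    (hP : ∀ i j, (P.submatrix (Fin.succAbove i) (Fin.succAbove j)).det ∈ M) :
    Q.det - P.det ∈ J * M := by
  classical
  let H : ℕ → Matrix (Fin (r + 1)) (Fin (r + 1)) R := fun t =>
    Matrix.of fun i => if (i : ℕ) < t then Q i else P i
  have hstep : ∀ t, t < r + 1 → (H (t + 1)).det - (H t).det ∈ J * M := by
    intro t ht
    let i : Fin (r + 1) := ⟨t, ht⟩
    have h1 : H (t + 1) = (H t).updateRow i (H t i + (Q i - P i)) := by
      ext a b
      rw [Matrix.updateRow_apply]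
      simp only [H, Matrix.of_apply]
      by_cases ha : a = i
      · subst ha; simp [i]
      · rw [if_neg ha]
        have : (a : ℕ) ≠ t := fun h => ha (Fin.ext h)
        by_cases h' : (a : ℕ) < t
        · rw [if_pos h', if_pos (by omega)]
        · rw [if_neg h', if_neg (by omega)]
    rw [h1, Matrix.det_updateRow_add, Matrix.updateRow_eq_self, add_sub_cancel_left,
      Matrix.det_succ_row _ i]
    refine Ideal.sum_mem _ fun j _ => ?_
    rw [mul_assoc, Matrix.updateRow_self, Pi.sub_apply]
    refine Ideal.mul_mem_left _ _ (Ideal.mul_mem_mul (hPQ i j) ?_)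
    rw [← Ideal.Quotient.eq_zero_iff_mem, RingHom.map_det]
    have h2 := Ideal.Quotient.eq_zero_iff_mem.2 (hP i j)
    rw [RingHom.map_det] at h2
    rw [← h2]
    congr 1
    ext a b
    simp only [RingHom.mapMatrix_apply, Matrix.map_apply, Matrix.submatrix_apply,
      Matrix.updateRow_apply, if_neg (Fin.succAbove_ne i a), H, Matrix.of_apply]
    split_ifs
    · exact Ideal.Quotient.eq.2 (hJM (hPQ _ _))
    · rfl
  have h0 : H 0 = P := by ext a b; simp [H]
  have hN : H (r + 1) = Q := by ext a b; simp only [H, Matrix.of_apply, if_pos a.isLt]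
  have key : ∀ t, t ≤ r + 1 → (H t).det - P.det ∈ J * M := by
    intro t
    induction t with
    | zero => intro _; rw [h0, sub_self]; exact zero_mem _
    | succ t ih =>
      intro ht
      have := add_mem (hstep t ht) (ih (by omega))
      simpa using this
  have := key (r + 1) le_rfl
  rwa [hN] at this

open MvPolynomial in
/-- The generic matrix. -/
abbrev genX (k : Type u) [CommRing k] (n m : ℕ) :
    Matrix (Fin n) (Fin m) (MvPolynomial (Fin n × Fin m) k) :=
  Matrix.of fun i j => X (i, j)

open MvPolynomial in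
theorem genX_minor_ne_zero (k : Type u) [CommRing k] [Nontrivial k] {s : ℕ} (f : Fin s → Fin n)
    (g : Fin s → Fin m) (hf : Function.Injective f) (hg : Function.Injective g) :
    ((genX k n m).submatrix f g).det ≠ 0 := by
  classical
  intro h
  have h1 := congr_arg (eval (fun ij : Fin n × Fin m =>
    if ∃ q, f q = ij.1 ∧ g q = ij.2 then (1 : k) else 0)) h
  rw [map_zero, RingHom.map_det] at h1
  rw [show RingHom.mapMatrix (eval (fun ij : Fin n × Fin m =>
    if ∃ q, f q = ij.1 ∧ g q = ij.2 then (1 : k) else 0)) ((genX k n m).submatrix f g) = 1 by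
      ext a b
      simp [Matrix.one_apply, hf.eq_iff, hg.eq_iff]] at h1
  simp at h1

variable (k : Type u) [Field k]

/-- The coordinate ring of the determinantal variety. -/
abbrev DetRing (n m r : ℕ) :=
  MvPolynomial (Fin n × Fin m) k ⧸ minorIdeal (genX k n m) (r + 1)

theorem formallySmooth_of_notMem {P : Ideal (DetRing k n m r)} [P.IsPrime]
    (f : Fin r → Fin n) (g : Fin r → Fin m)
    (hδ : Ideal.Quotient.mk (minorIdeal (genX k n m) (r + 1))
      ((genX k n m).submatrix f g).det ∉ P) :
    Algebra.FormallySmooth k (Localization.AtPrime P) := by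
  classical
  refine Algebra.FormallySmooth.of_comp_surjective fun A _ _ J hJ φ => ?_
  let q : MvPolynomial (Fin n × Fin m) k →ₐ[k] Localization.AtPrime P :=
    (IsScalarTower.toAlgHom k (DetRing k n m r) (Localization.AtPrime P)).comp
      (Ideal.Quotient.mkₐ k _)
  choose a ha using fun ij => Ideal.Quotient.mk_surjective (φ (q (MvPolynomial.X ij)))
  let M : Matrix (Fin n) (Fin m) A := Matrix.of fun i j => a (i, j)
  let π := Ideal.Quotient.mk J
  have hM : M.map π = (genX k n m).map (φ.comp q) := by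
    ext i j
    simp [M, π, ha, genX]
  have hnil : ∀ x : A, IsUnit (π x) → IsUnit x := fun x hx =>
    (IsNilpotent.isUnit_quotient_mk_iff (I := J) ⟨2, hJ⟩).1 hx
  have hδu : IsUnit (M.submatrix f g).det := by
    refine hnil _ ?_
    rw [RingHom.map_det, show π.mapMatrix (M.submatrix f g) = (M.map π).submatrix f g from rfl, hM,
      show ((genX k n m).map (φ.comp q)).submatrix f g =
        (φ.comp q).toRingHom.mapMatrix ((genX k n m).submatrix f g) from rfl, ← RingHom.map_det]
    exact (IsLocalization.map_units (Localization.AtPrime P)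
      (⟨_, hδ⟩ : P.primeCompl)).map φ
  let M' : Matrix (Fin n) (Fin m) A :=
    M.submatrix id g * (M.submatrix f g)⁻¹ * M.submatrix f id
  let χ : MvPolynomial (Fin n × Fin m) k →ₐ[k] A := MvPolynomial.aeval fun ij => M' ij.1 ij.2
  have hχX : (genX k n m).map χ = M' := by
    ext i j
    simp [χ, genX]
  have hχI : ∀ x ∈ minorIdeal (genX k n m) (r + 1), χ x = 0 := by
    intro x hx
    have h1 : (minorIdeal (genX k n m) (r + 1)).map χ.toRingHom = ⊥ := by
      rw [minorIdeal_map, show (genX k n m).map χ.toRingHom = M' from hχX, CAlgX.minorIdeal,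
        Ideal.span_eq_bot]
      rintro _ ⟨⟨f', g'⟩, rfl⟩
      exact det_submatrix_mul_eq_zero _ _ f' g'
    have h2 := Ideal.mem_map_of_mem χ.toRingHom hx
    rwa [h1, Submodule.mem_bot] at h2
  let χ' : DetRing k n m r →ₐ[k] A := Ideal.Quotient.liftₐ _ χ hχI
  have hπχ : (Ideal.Quotient.mkₐ k J).comp χ = φ.comp q := by
    refine MvPolynomial.algHom_ext fun ij => ?_
    have hbar : (M.map π).submatrix id g * ((M.map π).submatrix f g)⁻¹ * (M.map π).submatrix f id =
        M.map π := by
      refine bordered (fun f' g' => ?_) f g ?_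
      · rw [hM, show ((genX k n m).map (φ.comp q)).submatrix f' g' =
          (φ.comp q).toRingHom.mapMatrix ((genX k n m).submatrix f' g') from rfl, ← RingHom.map_det]
        change φ (algebraMap (DetRing k n m r) _ (Ideal.Quotient.mk _ _)) = 0
        rw [Ideal.Quotient.eq_zero_iff_mem.2 (show ((genX k n m).submatrix f' g').det ∈
          minorIdeal (genX k n m) (r + 1) from Ideal.subset_span ⟨(f', g'), rfl⟩), map_zero, map_zero]
      · rw [show (M.map π).submatrix f g = π.mapMatrix (M.submatrix f g) from rfl, ← RingHom.map_det]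
        exact hδu.map π
    have hinv : ((M.submatrix f g)⁻¹).map π = ((M.map π).submatrix f g)⁻¹ := by
      refine (Matrix.inv_eq_right_inv ?_).symm
      rw [show (M.map π).submatrix f g = (M.submatrix f g).map π from rfl, ← Matrix.map_mul,
        Matrix.mul_nonsing_inv _ hδu, Matrix.map_one _ (map_zero π) (map_one π)]
    have h1 : M'.map π = M.map π := by
      conv_rhs => rw [← hbar]
      rw [Matrix.map_mul, Matrix.map_mul, hinv]
      rfl
    have h2 := congr_fun (congr_fun (h1.trans hM) ij.1) ij.2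
    simpa [χ, genX, π] using h2
  have hunit : ∀ y : P.primeCompl, IsUnit (χ' y) := by
    rintro ⟨y, hy⟩
    obtain ⟨z, rfl⟩ := Ideal.Quotient.mk_surjective y
    refine hnil _ ?_
    rw [show π (χ' (Ideal.Quotient.mk _ z)) = φ (q z) from AlgHom.congr_fun hπχ z]
    exact (IsLocalization.map_units (Localization.AtPrime P) (⟨_, hy⟩ : P.primeCompl)).map φ
  refine ⟨IsLocalization.liftAlgHom (S := Localization.AtPrime P) hunit, ?_⟩
  refine AlgHom.coe_ringHom_injective (IsLocalization.ringHom_ext P.primeCompl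
    (Ideal.Quotient.ringHom_ext (RingHom.ext fun z => ?_)))
  change π (IsLocalization.liftAlgHom (S := Localization.AtPrime P) hunit
    (algebraMap (DetRing k n m r) _ (Ideal.Quotient.mk _ z))) = φ (q z)
  rw [IsLocalization.liftAlgHom_apply, IsLocalization.lift_eq]
  exact AlgHom.congr_fun hπχ z

omit k in
theorem exists_sq_lift {k : Type u} [CommRing k] {B C : Type u} [CommRing B] [Algebra k B] [CommRing C]
    [Algebra k C] [Algebra.FormallySmooth k B] (I : Ideal C) (ψ : B →ₐ[k] C ⧸ I) :
    ∃ σ : B →ₐ[k] C ⧸ I ^ 2, ∀ b c, ψ b = Ideal.Quotient.mk I c →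
      σ b - Ideal.Quotient.mk (I ^ 2) c ∈ I.map (Ideal.Quotient.mk (I ^ 2)) := by
  have hle : I ^ 2 ≤ I := Ideal.pow_le_self two_ne_zero
  let γ : C ⧸ I ^ 2 →ₐ[k] C ⧸ I := Ideal.Quotient.factorₐ k hle
  have hγ : Function.Surjective γ := Ideal.Quotient.factor_surjective hle
  have hker : RingHom.ker (γ : C ⧸ I ^ 2 →+* C ⧸ I) = I.map (Ideal.Quotient.mk (I ^ 2)) := by
    ext y
    obtain ⟨y, rfl⟩ := Ideal.Quotient.mk_surjective y
    rw [RingHom.mem_ker, Ideal.mem_map_iff_of_surjective _ Ideal.Quotient.mk_surjective]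
    change Ideal.Quotient.mk I y = 0 ↔ _
    rw [Ideal.Quotient.eq_zero_iff_mem]
    refine ⟨fun h => ⟨y, h, rfl⟩, fun ⟨z, hz, hzy⟩ => ?_⟩
    have := sub_mem hz (hle (Ideal.Quotient.eq.1 hzy))
    rwa [sub_sub_cancel] at this
  have hnil : IsNilpotent (RingHom.ker (γ : C ⧸ I ^ 2 →+* C ⧸ I)) :=
    ⟨2, by rw [hker, ← Ideal.map_pow, Ideal.map_quotient_self, Ideal.zero_eq_bot]⟩
  refine ⟨Algebra.FormallySmooth.liftOfSurjective ψ γ hγ hnil, fun b c hbc => ?_⟩
  rw [← hker, RingHom.mem_ker, map_sub, sub_eq_zero]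
  change γ (Algebra.FormallySmooth.liftOfSurjective ψ γ hγ hnil b) = Ideal.Quotient.mk I c
  rw [← hbc]
  exact AlgHom.congr_fun (Algebra.FormallySmooth.comp_liftOfSurjective ψ γ hγ hnil) b

theorem not_formallySmooth_of_le (hrn : r < n) (hrm : r < m) {P : Ideal (DetRing k n m r)}
    [P.IsPrime] (hP : (minorIdeal (genX k n m) r).map
      (Ideal.Quotient.mk (minorIdeal (genX k n m) (r + 1))) ≤ P) :
    ¬ Algebra.FormallySmooth k (Localization.AtPrime P) := by
  classical
  intro hsm
  let p : Ideal (MvPolynomial (Fin n × Fin m) k) :=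
    P.comap (Ideal.Quotient.mk (minorIdeal (genX k n m) (r + 1)))
  let L := Localization.AtPrime p
  let al : MvPolynomial (Fin n × Fin m) k →ₐ[k] L := IsScalarTower.toAlgHom k _ L
  set I : Ideal L := (minorIdeal (genX k n m) (r + 1)).map al.toRingHom with hI
  let mx := IsLocalRing.maximalIdeal L
  have hIm : I ≤ mx := by
    rw [hI, Ideal.map_le_iff_le_comap]
    intro x hx
    refine (IsLocalization.AtPrime.to_map_mem_maximal_iff L p x).2 ?_
    show Ideal.Quotient.mk _ x ∈ P
    rw [Ideal.Quotient.eq_zero_iff_mem.2 hx]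
    exact P.zero_mem
  let ψ0 : DetRing k n m r →ₐ[k] L ⧸ I :=
    Ideal.Quotient.liftₐ _ ((Ideal.Quotient.mkₐ k I).comp al) fun x hx =>
      Ideal.Quotient.eq_zero_iff_mem.2 (Ideal.mem_map_of_mem _ hx)
  have hunit : ∀ y : P.primeCompl, IsUnit (ψ0 y) := by
    rintro ⟨y, hy⟩
    obtain ⟨z, rfl⟩ := Ideal.Quotient.mk_surjective y
    exact (IsLocalization.map_units L (⟨z, hy⟩ : p.primeCompl)).map (Ideal.Quotient.mk I)
  let ψ := IsLocalization.liftAlgHom (A := k) (M := P.primeCompl) (S := Localization.AtPrime P)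
    (P := L ⧸ I) (f := ψ0) hunit
  obtain ⟨σ, hσ⟩ := exists_sq_lift I ψ
  let q : MvPolynomial (Fin n × Fin m) k →ₐ[k] Localization.AtPrime P :=
    (IsScalarTower.toAlgHom k (DetRing k n m r) (Localization.AtPrime P)).comp
      (Ideal.Quotient.mkₐ k _)
  let μ : MvPolynomial (Fin n × Fin m) k →+* L ⧸ I ^ 2 :=
    (Ideal.Quotient.mk (I ^ 2)).comp al.toRingHom
  have hcong : ∀ z, σ (q z) - μ z ∈ I.map (Ideal.Quotient.mk (I ^ 2)) := by
    intro z
    refine hσ (q z) (al z) ?_
    change IsLocalization.liftAlgHom (A := k) (M := P.primeCompl) (S := Localization.AtPrime P)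
      (P := L ⧸ I) (f := ψ0) hunit
      (algebraMap (DetRing k n m r) _ (Ideal.Quotient.mk _ z)) = _
    rw [IsLocalization.liftAlgHom_apply, IsLocalization.lift_eq]
    rfl
  have hbad : I ≤ mx • I := by
    rw [hI, Ideal.map_le_iff_le_comap]
    nth_rewrite 1 [CAlgX.minorIdeal]
    rw [Ideal.span_le]
    rintro _ ⟨⟨f, g⟩, rfl⟩
    change al ((genX k n m).submatrix f g).det ∈ mx • I
    rw [smul_eq_mul]
    have h1 : σ (q ((genX k n m).submatrix f g).det) = 0 := by
      change σ (algebraMap (DetRing k n m r) _ (Ideal.Quotient.mk _ _)) = 0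
      rw [Ideal.Quotient.eq_zero_iff_mem.2 (show ((genX k n m).submatrix f g).det ∈
          minorIdeal (genX k n m) (r + 1) from Ideal.subset_span ⟨(f, g), rfl⟩), map_zero, map_zero]
    have hmin : ∀ i j, ((μ.mapMatrix ((genX k n m).submatrix f g)).submatrix (Fin.succAbove i)
        (Fin.succAbove j)).det ∈ mx.map (Ideal.Quotient.mk (I ^ 2)) := by
      intro i j
      rw [show (μ.mapMatrix ((genX k n m).submatrix f g)).submatrix (Fin.succAbove i)
        (Fin.succAbove j) = μ.mapMatrix ((genX k n m).submatrix (f ∘ i.succAbove) (g ∘ j.succAbove))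
          from rfl, ← RingHom.map_det]
      refine Ideal.mem_map_of_mem _ ((IsLocalization.AtPrime.to_map_mem_maximal_iff L p _).2 ?_)
      exact hP (Ideal.mem_map_of_mem _ (Ideal.subset_span ⟨(f ∘ i.succAbove, g ∘ j.succAbove), rfl⟩))
    have h2 := det_sub_det_mem (J := I.map (Ideal.Quotient.mk (I ^ 2)))
      (M := mx.map (Ideal.Quotient.mk (I ^ 2))) (Ideal.map_mono hIm)
      (μ.mapMatrix ((genX k n m).submatrix f g))
      ((σ.comp q).toRingHom.mapMatrix ((genX k n m).submatrix f g)) (fun i j => hcong _) hmin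
    rw [← RingHom.map_det, ← RingHom.map_det, show (σ.comp q).toRingHom
      ((genX k n m).submatrix f g).det = 0 from h1, zero_sub, neg_mem_iff, ← Ideal.map_mul] at h2
    change Ideal.Quotient.mk (I ^ 2) (al ((genX k n m).submatrix f g).det) ∈ _ at h2
    rw [← Ideal.mem_comap, Ideal.comap_map_of_surjective _ Ideal.Quotient.mk_surjective,
      ← RingHom.ker_eq_comap_bot, Ideal.mk_ker] at h2
    refine (sup_le (by rw [mul_comm]) ?_ : I * mx ⊔ I ^ 2 ≤ mx * I) h2
    rw [pow_two]
    exact Ideal.mul_mono hIm le_rfl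
  have hbot : I = ⊥ := Submodule.eq_bot_of_le_smul_of_le_jacobson_bot mx I
    (IsNoetherian.noetherian _) hbad (IsLocalRing.maximalIdeal_le_jacobson _)
  have hne := genX_minor_ne_zero k (n := n) (m := m) (Fin.castLE hrn) (Fin.castLE hrm)
    (Fin.castLE_injective _) (Fin.castLE_injective _)
  have hmem : al ((genX k n m).submatrix (Fin.castLE hrn) (Fin.castLE hrm)).det ∈ I :=
    Ideal.mem_map_of_mem _ (Ideal.subset_span ⟨(_, _), rfl⟩)
  rw [hbot, Submodule.mem_bot] at hmem
  exact hne (IsLocalization.injective L p.primeCompl_le_nonZeroDivisors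
    (hmem.trans (map_zero _).symm))

end Groth.Agent.McCoy
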