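import Groth.Agent.McCoy.Basic
import Mathlib.RingTheory.Localization.Integer
import Mathlib.RingTheory.Localization.AtPrime.Basic
import Mathlib.RingTheory.LocalRing.Module
import Mathlib.RingTheory.Finiteness.Projective
import Mathlib.LinearAlgebra.Projection
import Mathlib.LinearAlgebra.Dimension.Free

/-!
# Finite free resolutions at primes of depth zero
-/

noncomputable section

universe u

open CAlgX Matrix

namespace Groth.Agent.McCoy

variable {R : Type u} [CommRing R] {n m k : ℕ}

/-- Localisation preserves exactness of matrices. -/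
theorem exact_map (M : Submonoid R) (S : Type u) [CommRing S] [Algebra R S] [IsLocalization M S]
    (A : Matrix (Fin n) (Fin m) R) (B : Matrix (Fin k) (Fin n) R)
    (h : LinearMap.ker B.mulVecLin = LinearMap.range A.mulVecLin) :
    LinearMap.ker (B.map (algebraMap R S)).mulVecLin =
      LinearMap.range (A.map (algebraMap R S)).mulVecLin := by
  classical
  apply le_antisymm
  · intro v hv
    rw [LinearMap.mem_ker, Matrix.mulVecLin_apply] at hv
    obtain ⟨b, hb⟩ := IsLocalization.exist_integer_multiples_of_finite M v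
    choose w hw using hb
    have hBw : ∀ l, algebraMap R S ((B *ᵥ w) l) = 0 := fun l => by
      rw [RingHom.map_mulVec]
      have : (algebraMap R S) ∘ w = algebraMap R S b • v := funext fun i => by
        simp [hw i, Algebra.smul_def]
      rw [this, Matrix.mulVec_smul, hv, smul_zero, Pi.zero_apply]
    choose c hc using fun l => (IsLocalization.map_eq_zero_iff M S _).1 (hBw l)
    let c0 : M := ∏ l, c l
    have hker : ((c0 : R) • w) ∈ LinearMap.ker B.mulVecLin := by
      rw [LinearMap.mem_ker, map_smul]
      funext l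
      obtain ⟨d, hd⟩ : (c l : R) ∣ (c0 : R) := by
        simp only [c0, Submonoid.coe_finsetProd]
        exact Finset.dvd_prod_of_mem _ (Finset.mem_univ l)
      rw [Pi.smul_apply, smul_eq_mul, hd, mul_right_comm, Pi.zero_apply, Matrix.mulVecLin_apply,
        hc l, zero_mul]
    rw [h] at hker
    obtain ⟨x, hx⟩ := hker
    have hu := IsLocalization.map_units S (c0 * b)
    refine ⟨(↑hu.unit⁻¹ : S) • (algebraMap R S ∘ x), ?_⟩
    rw [map_smul]
    funext i
    have h1 : ((A.map (algebraMap R S)) *ᵥ (algebraMap R S ∘ x)) i =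
        algebraMap R S ((c0 * b : M) : R) * v i := by
      rw [← RingHom.map_mulVec, show A *ᵥ x = (c0 : R) • w from hx, Pi.smul_apply, smul_eq_mul,
        map_mul, hw i, Algebra.smul_def, Submonoid.coe_mul, map_mul, mul_assoc]
    rw [Pi.smul_apply, Matrix.mulVecLin_apply, h1, smul_eq_mul, ← mul_assoc, IsUnit.val_inv_mul,
      one_mul]
  · have hBA : B * A = 0 := by
      ext i j
      have : A *ᵥ Pi.single j 1 ∈ LinearMap.ker B.mulVecLin := h ▸ ⟨_, rfl⟩
      rw [LinearMap.mem_ker, Matrix.mulVecLin_apply, Matrix.mulVec_mulVec,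
        Matrix.mulVec_single_one] at this
      exact congr_fun this i
    rintro _ ⟨x, rfl⟩
    rw [LinearMap.mem_ker, Matrix.mulVecLin_apply, Matrix.mulVecLin_apply, Matrix.mulVec_mulVec,
      ← Matrix.map_mul, hBA, Matrix.map_zero _ (map_zero _), Matrix.zero_mulVec]

section Local

variable [IsLocalRing R]

/-- Over a local ring of depth zero free finite submodules of free modules split. -/
theorem free_quotient {s : R} (hs : s ≠ 0) (hsm : ∀ x ∈ IsLocalRing.maximalIdeal R, x * s = 0)
    (N : Submodule R (Fin n → R)) [Module.Free R N] [Module.Finite R N] :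
    Module.Free R ((Fin n → R) ⧸ N) ∧
      Module.finrank R ((Fin n → R) ⧸ N) + Module.finrank R N = n := by
  classical
  let b := Module.finBasis R N
  let d := Module.finrank R N
  let A : Matrix (Fin n) (Fin d) R := Matrix.of fun i j => ((b j : N) : Fin n → R) i
  have hA : A.mulVecLin = N.subtype ∘ₗ b.equivFun.symm.toLinearMap := by
    refine LinearMap.ext fun x => ?_
    funext i
    simp [A, d, Module.Basis.equivFun_symm_apply, Matrix.mulVec, dotProduct, mul_comm]
  have hinj : Function.Injective A.mulVecLin := by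
    rw [hA]
    exact N.injective_subtype.comp b.equivFun.symm.injective
  obtain ⟨f, g, hu⟩ : ∃ f g, IsUnit (A.submatrix f g : Matrix (Fin d) (Fin d) R).det := by
    by_contra hne
    push Not at hne
    have hann := (injective_iff A).1 hinj
    have : s ∈ (minorIdeal A d).annihilator := by
      rw [CAlgX.minorIdeal, Submodule.mem_annihilator_span]
      rintro ⟨_, ⟨f, g⟩, rfl⟩
      rw [smul_eq_mul, mul_comm]
      exact hsm _ ((IsLocalRing.mem_maximalIdeal _).2 (hne f g))
    rw [hann] at this
    exact hs (by simpa using this)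
  have hg : Function.Bijective g := Finite.injective_iff_bijective.1 fun p q hpq => by
    by_contra hne
    rw [Matrix.det_zero_of_column_eq hne (fun i => by simp [hpq])] at hu
    exact not_isUnit_zero hu
  let S := A.submatrix f g
  let σ := (Equiv.ofBijective g hg)
  let L : (Fin n → R) →ₗ[R] N :=
    (N.subtype ∘ₗ b.equivFun.symm.toLinearMap).codRestrict N (fun x => (b.equivFun.symm x).2) ∘ₗ
      LinearMap.funLeft R R σ.symm ∘ₗ S⁻¹.mulVecLin ∘ₗ LinearMap.funLeft R R f
  have hL : ∀ x : N, L x = x := by
    intro x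
    set y := b.equivFun x
    have hx : (x : Fin n → R) = A *ᵥ y := by
      rw [← Matrix.mulVecLin_apply, hA]
      simp [y]
    have h1 : (fun p => (x : Fin n → R) (f p)) = S *ᵥ (fun p => y (σ p)) := by
      rw [hx]
      funext p
      simp only [Matrix.mulVec, dotProduct, S, Matrix.submatrix_apply]
      exact (Equiv.sum_comp σ (fun j => A (f p) j * y j)).symm
    apply Subtype.ext
    change ((b.equivFun.symm (fun j => (S⁻¹ *ᵥ fun p => (x : Fin n → R) (f p)) (σ.symm j)) : N) :
      Fin n → R) = _
    rw [h1, Matrix.mulVec_mulVec, Matrix.nonsing_inv_mul _ hu, Matrix.one_mulVec]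
    simp only [Equiv.apply_symm_apply]
    rw [show (fun j => y j) = b.equivFun x from rfl, LinearEquiv.symm_apply_apply]
  have hc := LinearMap.isCompl_of_proj hL
  have hproj : Module.Projective R (LinearMap.ker L) :=
    Module.Projective.of_split (LinearMap.ker L).subtype
      (Submodule.projectionOnto _ _ hc.symm)
      (LinearMap.ext fun x => Submodule.projectionOnto_apply_left hc.symm x)
  have hfin : Module.Finite R (LinearMap.ker L) :=
    Module.Finite.of_surjective (Submodule.projectionOnto _ _ hc.symm)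
      (fun x => ⟨x, Submodule.projectionOnto_apply_left hc.symm x⟩)
  haveI : Module.Free R (LinearMap.ker L) := Module.free_of_flat_of_isLocalRing
  let e := Submodule.quotientEquivOfIsCompl N (LinearMap.ker L) hc
  refine ⟨Module.Free.of_equiv e.symm, ?_⟩
  have h2 := (Submodule.prodEquivOfIsCompl N (LinearMap.ker L) hc).finrank_eq
  rw [Module.finrank_prod, Module.finrank_fin_fun] at h2
  rw [e.finrank_eq]
  omega

end Local

/-- The image of a localised matrix. -/
abbrev locRange (M : Submonoid R) (A : Matrix (Fin n) (Fin m) R) :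
    Submodule (Localization M) (Fin n → Localization M) :=
  LinearMap.range (A.map (algebraMap R (Localization M))).mulVecLin

/-- A prime `q` with `q = ann c`. -/
def IsAssoc (q : Ideal R) : Prop := q.IsPrime ∧ ∃ c : R, ∀ x, x ∈ q ↔ x * c = 0

lemma exists_socle {q : Ideal R} (hq : IsAssoc q) [q.IsPrime] :
    ∃ s : Localization.AtPrime q, s ≠ 0 ∧
      ∀ x ∈ IsLocalRing.maximalIdeal (Localization.AtPrime q), x * s = 0 := by
  obtain ⟨-, c, hc⟩ := hq
  refine ⟨algebraMap R _ c, fun h => ?_, fun x hx => ?_⟩
  · obtain ⟨t, ht⟩ := (IsLocalization.map_eq_zero_iff q.primeCompl _ _).1 h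
    exact t.2 ((hc t).2 ht)
  · rw [← Localization.AtPrime.map_eq_maximalIdeal] at hx
    refine Submodule.span_induction ?_ (zero_mul _) (fun a b _ _ ha hb => by rw [add_mul, ha, hb,
      add_zero]) (fun r a _ ha => by rw [smul_eq_mul, mul_assoc, ha, mul_zero]) hx
    rintro _ ⟨y, hy, rfl⟩
    rw [← map_mul, (hc y).1 hy, map_zero]

/-- Rank of an image at the associated primes in a finite free resolution. -/
theorem exists_rank (e : ℕ) (n : ℕ → ℕ) (A : (i : ℕ) → Matrix (Fin (n i)) (Fin (n (i + 1))) R)
    (hA : ∀ i, i + 2 ≤ e → LinearMap.ker (A i).mulVecLin = LinearMap.range (A (i + 1)).mulVecLin)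
    (hlast : LinearMap.ker (A (e - 1)).mulVecLin = ⊥) :
    ∀ d i, i + d + 1 = e → ∃ c : ℕ, ∀ (q : Ideal R) [q.IsPrime], IsAssoc q →
      Module.Free (Localization.AtPrime q) (locRange q.primeCompl (A i)) ∧
      Module.finrank (Localization.AtPrime q) (locRange q.primeCompl (A i)) = c := by
  intro d
  induction d with
  | zero =>
    intro i hi
    obtain rfl : i = e - 1 := by omega
    refine ⟨n (e - 1 + 1), fun q _ _ => ?_⟩
    have h0 : LinearMap.ker (A (e - 1)).mulVecLin =
        LinearMap.range (0 : Matrix (Fin (n (e - 1 + 1))) (Fin 0) R).mulVecLin := by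
      rw [hlast, Matrix.mulVecLin_zero, LinearMap.range_zero]
    have h1 := exact_map q.primeCompl (Localization.AtPrime q) _ _ h0
    rw [Matrix.map_zero _ (map_zero _), Matrix.mulVecLin_zero, LinearMap.range_zero,
      LinearMap.ker_eq_bot] at h1
    let eqv := LinearEquiv.ofInjective _ h1
    exact ⟨Module.Free.of_equiv eqv, eqv.finrank_eq.symm.trans (Module.finrank_fin_fun _)⟩
  | succ d ih =>
    intro i hi
    obtain ⟨c, hc⟩ := ih (i + 1) (by omega)
    refine ⟨n (i + 1) - c, fun q _ hq => ?_⟩
    obtain ⟨hfree, hrk⟩ := hc q hq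
    haveI : Module.Finite (Localization.AtPrime q) (locRange q.primeCompl (A (i + 1))) :=
      Module.Finite.range _
    obtain ⟨s, hs, hsm⟩ := exists_socle hq
    obtain ⟨hQ, hQr⟩ := free_quotient hs hsm (locRange q.primeCompl (A (i + 1)))
    have h1 := exact_map q.primeCompl (Localization.AtPrime q) _ _ (hA i (by omega))
    let eqv := (Submodule.quotEquivOfEq _ _ h1.symm).trans
      (A i |>.map (algebraMap R (Localization.AtPrime q))).mulVecLin.quotKerEquivRange
    refine ⟨Module.Free.of_equiv eqv, eqv.finrank_eq.symm.trans ?_⟩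
    exact Nat.eq_sub_of_add_eq ((congrArg (_ + ·) hrk.symm).trans hQr)

/-- An ideal with a finite free resolution contains a non-zero-divisor. -/
theorem exists_nonZeroDivisor_of_resolution [IsNoetherianRing R] (e : ℕ) (he : 1 ≤ e) (n : ℕ → ℕ)
    (A : (i : ℕ) → Matrix (Fin (n i)) (Fin (n (i + 1))) R) (P : Matrix (Fin 1) (Fin (n 0)) R)
    (hP : P ≠ 0) (h0 : LinearMap.ker P.mulVecLin = LinearMap.range (A 0).mulVecLin)
    (hA : ∀ i, i + 2 ≤ e → LinearMap.ker (A i).mulVecLin = LinearMap.range (A (i + 1)).mulVecLin)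
    (hlast : LinearMap.ker (A (e - 1)).mulVecLin = ⊥) :
    ∃ x ∈ Ideal.span (Set.range (P 0)), x ∈ nonZeroDivisors R := by
  classical
  by_contra hne
  push Not at hne
  have hassoc : ∀ p, p ∈ associatedPrimes R R → IsAssoc p := by
    intro p hp
    obtain ⟨hpr, c, hc⟩ := isAssociatedPrime_iff.1 hp
    refine ⟨hpr, c, fun x => ?_⟩
    rw [hc, Submodule.mem_colon_singleton, Submodule.mem_bot, smul_eq_mul]
  have hsub : ((Ideal.span (Set.range (P 0)) : Ideal R) : Set R) ⊆
      ⋃ p ∈ associatedPrimes R R, ((p : Ideal R) : Set R) := by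
    rw [biUnion_associatedPrimes_eq_compl_nonZeroDivisors]
    exact fun x hx => hne x hx
  obtain ⟨p, hp, hIp⟩ := (Ideal.subset_union_prime_finite (associatedPrimes.finite R R) ⊤ ⊤
    (fun p hp _ _ => hp.isPrime)).1 hsub
  haveI := hp.isPrime
  obtain ⟨c, hc⟩ := exists_rank e n A hA hlast (e - 1) 0 (by omega)
  have key : ∀ (q : Ideal R) [q.IsPrime], IsAssoc q →
      Module.Free (Localization.AtPrime q) (locRange q.primeCompl P) ∧
      Module.finrank (Localization.AtPrime q) (locRange q.primeCompl P) = n 0 - c := by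
    intro q _ hq
    obtain ⟨hfree, hrk⟩ := hc q hq
    haveI : Module.Finite (Localization.AtPrime q) (locRange q.primeCompl (A 0)) :=
      Module.Finite.range _
    obtain ⟨s, hs, hsm⟩ := exists_socle hq
    obtain ⟨hQ, hQr⟩ := free_quotient hs hsm (locRange q.primeCompl (A 0))
    have h1 := exact_map q.primeCompl (Localization.AtPrime q) _ _ h0
    let eqv := (Submodule.quotEquivOfEq _ _ h1.symm).trans
      (P.map (algebraMap R (Localization.AtPrime q))).mulVecLin.quotKerEquivRange
    refine ⟨Module.Free.of_equiv eqv, eqv.finrank_eq.symm.trans ?_⟩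
    exact Nat.eq_sub_of_add_eq ((congrArg (_ + ·) hrk.symm).trans hQr)
  have hr0 : n 0 - c = 0 := by
    by_contra hpos
    obtain ⟨hfree, hrk⟩ := key p (hassoc p hp)
    obtain ⟨s, hs, hsm⟩ := exists_socle (hassoc p hp)
    haveI : Module.Finite (Localization.AtPrime p) (locRange p.primeCompl P) :=
      Module.Finite.range _
    let b := Module.finBasisOfFinrankEq (Localization.AtPrime p) (locRange p.primeCompl P) hrk
    have hmem : ∀ v : locRange p.primeCompl P, (v : Fin 1 → Localization.AtPrime p) 0 ∈
        IsLocalRing.maximalIdeal (Localization.AtPrime p) := by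
      rintro ⟨_, x, rfl⟩
      change (∑ j, (P.map (algebraMap R (Localization.AtPrime p))) 0 j * x j) ∈ _
      refine Ideal.sum_mem _ fun j _ => Ideal.mul_mem_right _ _ ?_
      rw [← Localization.AtPrime.map_eq_maximalIdeal]
      exact Ideal.mem_map_of_mem _ (hIp (Ideal.subset_span ⟨j, rfl⟩))
    let i0 : Fin (n 0 - c) := ⟨0, by omega⟩
    have hs0 : s • b i0 = 0 := Subtype.ext (funext fun l => by
      obtain rfl := Subsingleton.elim l 0
      change s * ((b i0 : locRange p.primeCompl P) : Fin 1 → Localization.AtPrime p) 0 = 0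
      rw [mul_comm]
      exact hsm _ (hmem _))
    have := congr_arg (fun v => b.repr v i0) hs0
    simp at this
    exact hs this
  obtain ⟨j, hj⟩ : ∃ j, P 0 j ≠ 0 := by
    by_contra hall
    push Not at hall
    exact hP (Matrix.ext fun i j => by rw [Subsingleton.elim i 0, hall j]; rfl)
  obtain ⟨q, hq, hqj⟩ := exists_le_isAssociatedPrime_of_isNoetherianRing R (P 0 j) hj
  haveI := hq.isPrime
  obtain ⟨hfree, hrk⟩ := key q (hassoc q hq)
  haveI : Module.Finite (Localization.AtPrime q) (locRange q.primeCompl P) :=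
    Module.Finite.range _
  let b := Module.finBasisOfFinrankEq (Localization.AtPrime q) (locRange q.primeCompl P)
    (hrk.trans hr0)
  have hv : (⟨_, ⟨Pi.single j 1, rfl⟩⟩ : locRange q.primeCompl P) = 0 :=
    (b.repr.injective.eq_iff).1 (Finsupp.ext fun i => i.elim0)
  have h1 := congr_fun (congr_arg Subtype.val hv) 0
  simp only [Matrix.mulVecLin_apply, Matrix.mulVec_single_one, Matrix.col_apply, Matrix.map_apply,
    ZeroMemClass.coe_zero, Pi.zero_apply] at h1
  obtain ⟨t, ht⟩ := (IsLocalization.map_eq_zero_iff q.primeCompl _ _).1 h1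
  exact t.2 (hqj (Submodule.mem_colon_singleton.2 (by simpa using ht)))

end Groth.Agent.McCoy
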