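import Groth.Agent.McCoy.Basic
import Groth.Agent.Depth.Basic

/-!
# The Hilbert–Burch theorem
-/

noncomputable section

universe u

open CAlgX Matrix

namespace Groth.Agent.McCoy

variable {R : Type u} [CommRing R]

/-- A regular pair. -/
def PairReg (a b : R) : Prop := (∀ x, a * x = 0 → x = 0) ∧ ∀ x, a ∣ b * x → a ∣ x

lemma isWeaklyRegular_pair_iff (a b : R) :
    RingTheory.Sequence.IsWeaklyRegular R [a, b] ↔ PairReg a b := by
  have hmk : ∀ x : R, (Submodule.Quotient.mk x : QuotSMulTop a R) = 0 ↔ a ∣ x := fun x => by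
    rw [Submodule.Quotient.mk_eq_zero, Submodule.mem_smul_pointwise_iff_exists]
    exact ⟨fun ⟨y, _, hy⟩ => ⟨y, hy.symm⟩, fun ⟨y, hy⟩ => ⟨y, trivial, hy.symm⟩⟩
  rw [RingTheory.Sequence.isWeaklyRegular_cons_iff, RingTheory.Sequence.isWeaklyRegular_cons_iff,
    isSMulRegular_iff_right_eq_zero_of_smul, isSMulRegular_iff_right_eq_zero_of_smul]
  constructor
  · rintro ⟨h1, h2, -⟩
    refine ⟨fun x hx => h1 x hx, fun x hx => (hmk x).1 (h2 _ ?_)⟩
    rw [← Submodule.Quotient.mk_smul]
    exact (hmk _).2 hx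
  · rintro ⟨h1, h2⟩
    refine ⟨fun x hx => h1 x hx, ?_, RingTheory.Sequence.IsWeaklyRegular.nil _ _⟩
    intro y
    induction y using Submodule.Quotient.induction_on with
    | _ x =>
      intro hy
      rw [← Submodule.Quotient.mk_smul] at hy
      exact (hmk x).2 (h2 x ((hmk _).1 hy))

lemma exists_pairReg {I : Ideal R} (h : 2 ≤ LocCoh.idealDepth I R) :
    ∃ a b : R, a ∈ I ∧ b ∈ I ∧ PairReg a b := by
  by_cases hI : I • (⊤ : Submodule R R) = ⊤
  · refine ⟨1, 0, ?_, I.zero_mem, fun x hx => by simpa using hx, fun x _ => one_dvd x⟩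
    have : I = ⊤ := by simpa using hI
    rw [this]; trivial
  obtain ⟨rs, hl, hm, hr⟩ := (Depth.le_idealDepth_iff_exists hI (n := 2)).1 h
  match rs, hl with
  | [a, b], _ => exact ⟨a, b, hm a (by simp), hm b (by simp), (isWeaklyRegular_pair_iff a b).1 hr⟩

lemma two_le_idealDepth {I : Ideal R} {a b : R} (ha : a ∈ I) (hb : b ∈ I) (h : PairReg a b) :
    2 ≤ LocCoh.idealDepth I R := by
  have := Depth.le_idealDepth_of_isWeaklyRegular (I := I)
    ((isWeaklyRegular_pair_iff a b).2 h) (by simp [ha, hb])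
  simpa using this

variable {n m t : ℕ}

/-- Signed maximal minors. -/
def Δ (Ψ : Matrix (Fin (t + 1)) (Fin t) R) : Fin (t + 1) → R :=
  fun i => (-1 : R) ^ (i : ℕ) * (Ψ.submatrix i.succAbove id).det

lemma sum_mul_Δ (Ψ : Matrix (Fin (t + 1)) (Fin t) R) (j : Fin t) : ∑ i, Ψ i j * Δ Ψ i = 0 := by
  let M : Matrix (Fin (t + 1)) (Fin (t + 1)) R := Matrix.of fun i => Fin.cons (Ψ i j) (Ψ i)
  have hM : M.det = 0 := Matrix.det_zero_of_column_eq (Fin.succ_ne_zero j) fun i => by simp [M]
  rw [Matrix.det_succ_column_zero] at hM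
  rw [← hM]
  refine Finset.sum_congr rfl fun i _ => ?_
  have : M.submatrix i.succAbove Fin.succ = Ψ.submatrix i.succAbove id := by ext a b; simp [M]
  rw [this]
  simp [M, Δ]
  ring

lemma sum_mulVec_Δ (Ψ : Matrix (Fin (t + 1)) (Fin t) R) (x : Fin t → R) :
    ∑ i, (Ψ *ᵥ x) i * Δ Ψ i = 0 := by
  simp only [Matrix.mulVec, dotProduct, Finset.sum_mul]
  rw [Finset.sum_comm]
  refine Finset.sum_eq_zero fun j _ => ?_
  rw [Finset.sum_congr rfl fun i _ => show Ψ i j * x j * Δ Ψ i = x j * (Ψ i j * Δ Ψ i) by ring,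
    ← Finset.mul_sum, sum_mul_Δ, mul_zero]

lemma minorIdeal_eq_span (Ψ : Matrix (Fin (t + 1)) (Fin t) R) :
    minorIdeal Ψ t = Ideal.span (Set.range (Δ Ψ)) := by
  apply le_antisymm
  · rw [CAlgX.minorIdeal, Ideal.span_le]
    rintro _ ⟨⟨f, g⟩, rfl⟩
    change (Ψ.submatrix f g).det ∈ Ideal.span (Set.range (Δ Ψ))
    by_cases hg : Function.Injective g
    · by_cases hf : Function.Injective f
      · obtain ⟨i, hi⟩ : ∃ i, i ∉ Set.range f := by
          by_contra hall
          push Not at hall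
          have := Fintype.card_le_of_surjective f hall
          simp at this
        choose σ hσ using fun p => Fin.exists_succAbove_eq (x := f p) (y := i) fun he => hi ⟨p, he⟩
        have hσi : Function.Injective σ := fun p q hpq => hf (by rw [← hσ p, ← hσ q, hpq])
        let e := Equiv.ofBijective σ (Finite.injective_iff_bijective.1 hσi)
        let e' := Equiv.ofBijective g (Finite.injective_iff_bijective.1 hg)
        rw [show Ψ.submatrix f g =
          ((Ψ.submatrix i.succAbove id).submatrix e id).submatrix id e' by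
            ext p q; simp [e, e', hσ]]
        rw [Matrix.det_permute', Matrix.det_permute]
        have hmem : (Ψ.submatrix i.succAbove id).det ∈ Ideal.span (Set.range (Δ Ψ)) := by
          have h1 : Δ Ψ i ∈ Ideal.span (Set.range (Δ Ψ)) := Ideal.subset_span ⟨i, rfl⟩
          have h2 := Ideal.mul_mem_left _ ((-1 : R) ^ (i : ℕ)) h1
          rwa [Δ, ← mul_assoc, ← mul_pow, neg_mul_neg, one_mul, one_pow, one_mul] at h2
        exact Ideal.mul_mem_left _ _ (Ideal.mul_mem_left _ _ hmem)
      · simp only [Function.Injective, not_forall] at hf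
        obtain ⟨a, b, hab, hne⟩ := hf
        rw [Matrix.det_zero_of_row_eq hne (by ext; simp [hab])]
        exact zero_mem _
    · simp only [Function.Injective, not_forall] at hg
      obtain ⟨a, b, hab, hne⟩ := hg
      rw [Matrix.det_zero_of_column_eq hne (fun i => by simp [hab])]
      exact zero_mem _
  · rw [Ideal.span_le]
    rintro _ ⟨i, rfl⟩
    exact Ideal.mul_mem_left _ _ (Ideal.subset_span ⟨(i.succAbove, id), rfl⟩)

lemma range_linearCombination_smul (a : R) (v : Fin n → R) :
    LinearMap.range (Fintype.linearCombination R (fun i => a * v i)) =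
      Ideal.span {a} * Ideal.span (Set.range v) := by
  rw [Fintype.range_linearCombination, Ideal.span_mul_span', Set.singleton_mul, ← Set.range_comp]
  rfl

/-- Exactness of the Hilbert–Burch complex. -/
theorem exact_of_depth (Ψ : Matrix (Fin (t + 1)) (Fin t) R)
    (hd : 2 ≤ LocCoh.idealDepth (minorIdeal Ψ t) R) {v : Fin (t + 1) → R}
    (hv : ∑ i, v i * Δ Ψ i = 0) : ∃ x, Ψ *ᵥ x = v := by
  obtain ⟨a, b, ha, hb, hab⟩ := exists_pairReg hd
  let J : Ideal R := (LinearMap.range Ψ.mulVecLin).colon {v}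
  have hJ : minorIdeal Ψ t ≤ J.radical := by
    rw [minorIdeal_eq_span, Ideal.span_le]
    rintro _ ⟨i, rfl⟩
    refine ⟨2, ?_⟩
    rw [Submodule.mem_colon_singleton, LinearMap.mem_range]
    set S := Ψ.submatrix i.succAbove id with hS
    let x := S.adjugate *ᵥ (v ∘ i.succAbove)
    let z := Ψ *ᵥ x - S.det • v
    have hz0 : ∀ p, z (i.succAbove p) = 0 := by
      intro p
      have h1 : S *ᵥ x = S.det • (v ∘ i.succAbove) := by
        simp [x, Matrix.mulVec_mulVec, Matrix.mul_adjugate, Matrix.smul_mulVec, Matrix.one_mulVec]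
      have h2 := congr_fun h1 p
      simp only [z, Pi.sub_apply, sub_eq_zero, Pi.smul_apply, smul_eq_mul, Function.comp_apply] at h2 ⊢
      rw [← h2]
      rfl
    have hzsum : ∑ l, z l * Δ Ψ l = 0 := by
      simp only [z, Pi.sub_apply, Pi.smul_apply, sub_mul, Finset.sum_sub_distrib, sum_mulVec_Δ,
        smul_eq_mul, mul_assoc, ← Finset.mul_sum, hv, mul_zero, sub_zero]
    rw [Fin.sum_univ_succAbove _ i] at hzsum
    simp only [hz0, zero_mul, Finset.sum_const_zero, add_zero] at hzsum
    refine ⟨((-1 : R) ^ (i : ℕ)) ^ 2 • S.det • x, funext fun l => ?_⟩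
    simp only [Matrix.mulVecLin_apply, Matrix.mulVec_smul, Pi.smul_apply, smul_eq_mul, Δ, ← hS,
      mul_pow]
    obtain hl | ⟨p, rfl⟩ : l = i ∨ ∃ p, i.succAbove p = l :=
      (em (l = i)).imp_right Fin.exists_succAbove_eq
    · subst hl
      simp only [z, Δ, ← hS, Pi.sub_apply, Pi.smul_apply, smul_eq_mul] at hzsum
      linear_combination ((-1 : R) ^ (l : ℕ)) * hzsum
    · have := hz0 p
      simp only [z, Pi.sub_apply, Pi.smul_apply, smul_eq_mul] at this
      linear_combination (((-1 : R) ^ (i : ℕ)) ^ 2 * S.det) * this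
  obtain ⟨p, hp⟩ := hJ ha
  obtain ⟨q, hq⟩ := hJ hb
  rw [Submodule.mem_colon_singleton, LinearMap.mem_range] at hp hq
  obtain ⟨y, hy⟩ := hq
  have hbq : ∀ (k : ℕ) (x : R), a ∣ b ^ k * x → a ∣ x := by
    intro k
    induction k with
    | zero => intro x hx; simpa using hx
    | succ k ih =>
      intro x hx
      refine ih x (hab.2 _ ?_)
      rwa [pow_succ', mul_assoc] at hx
  have hinj : Function.Injective Ψ.mulVecLin :=
    (injective_iff Ψ).2 (annihilator_eq_bot_of_mem ha (mem_nonZeroDivisors_iff_right.2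
      fun x hx => hab.1 x (by rwa [mul_comm])))
  obtain ⟨w, hw⟩ := hp
  suffices ∀ (k : ℕ) (x : Fin t → R), Ψ *ᵥ x = a ^ k • v → ∃ x, Ψ *ᵥ x = v from this p w hw
  intro k
  induction k with
  | zero => exact fun x hx => ⟨x, by simpa using hx⟩
  | succ k ih =>
    intro x hx
    have h1 : b ^ q • x = a ^ (k + 1) • y := by
      refine hinj ?_
      simp only [map_smul, Matrix.mulVecLin_apply, hx]
      rw [show Ψ *ᵥ y = b ^ q • v from hy, smul_comm]
    have h2 : ∀ j, a ∣ x j := fun j => hbq q _ ⟨a ^ k * y j, by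
      have := congr_fun h1 j
      simp only [Pi.smul_apply, smul_eq_mul] at this
      rw [this, pow_succ']; ring⟩
    choose x' hx' using h2
    refine ih x' (funext fun l => sub_eq_zero.1 (hab.1 _ ?_))
    have h3 := congr_fun hx l
    rw [show x = a • x' from funext hx', Matrix.mulVec_smul] at h3
    simp only [Pi.smul_apply, smul_eq_mul] at h3 ⊢
    linear_combination h3

/-- Hilbert–Burch: the number of generators of an ideal of projective dimension one. -/
theorem card_eq [IsNoetherianRing R] (Ψ : Matrix (Fin n) (Fin m) R) (p : Fin n → R)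
    (hΨ : Function.Injective Ψ.mulVecLin)
    (hrel : ∀ j, ∑ i, p i * Ψ i j = 0)
    (hex : ∀ v, ∑ i, p i * v i = 0 → ∃ x, Ψ *ᵥ x = v) (hp : ∃ i, p i ≠ 0) : n = m + 1 := by
  classical
  obtain ⟨i0, hi0⟩ := hp
  have : Nontrivial R := ⟨⟨_, _, hi0⟩⟩
  have hmn := le_of_injective hΨ
  by_contra hne
  obtain ⟨d, hd, hdreg⟩ := exists_nonZeroDivisor_of_annihilator ((injective_iff Ψ).1 hΨ)
  suffices minorIdeal Ψ m ≤ (Ideal.span (Set.range p)).annihilator.radical by
    obtain ⟨N, hN⟩ := this hd
    rw [Submodule.mem_annihilator] at hN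
    exact hi0 (mem_nonZeroDivisors_iff_right.1 (pow_mem hdreg N) _
      (by rw [mul_comm]; exact hN _ (Ideal.subset_span ⟨i0, rfl⟩)))
  rw [CAlgX.minorIdeal, Ideal.span_le]
  rintro _ ⟨⟨f, g⟩, rfl⟩
  change (Ψ.submatrix f g).det ∈ (Ideal.span (Set.range p)).annihilator.radical
  by_cases hf : Function.Injective f
  swap
  · simp only [Function.Injective, not_forall] at hf
    obtain ⟨a, b, hab, hne⟩ := hf
    rw [Matrix.det_zero_of_row_eq hne (by ext; simp [hab])]
    exact zero_mem _
  set δ := (Ψ.submatrix f g).det with hδ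
  have hout : ∀ i, i ∉ Set.range f → δ * p i = 0 := by
    intro i hi
    obtain ⟨k, hk, hki⟩ : ∃ k, k ∉ Set.range f ∧ k ≠ i := by
      by_contra hall
      push Not at hall
      have h1 : ∀ k, k ∈ Set.range (Fin.cons i f : Fin (m + 1) → Fin n) := by
        intro k
        by_cases hk : k ∈ Set.range f
        · obtain ⟨q, rfl⟩ := hk; exact ⟨q.succ, by simp⟩
        · exact ⟨0, by simp [hall k hk]⟩
      have h2 := Fintype.card_le_of_surjective _ h1
      simp at h2
      have : m ≠ n := by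
        rintro rfl
        exact hi ((Finite.injective_iff_bijective.1 hf).2 i)
      omega
    obtain ⟨x, hx⟩ := hex (Pi.single k (p i) - Pi.single i (p k)) (by
      simp [mul_sub, Finset.sum_sub_distrib, Pi.single_apply, mul_ite]
      ring)
    have hx0 : (Ψ.submatrix f id) *ᵥ x = 0 := funext fun q => by
      have := congr_fun hx (f q)
      have h1 : f q ≠ k := fun h => hk ⟨q, h⟩
      have h2 : f q ≠ i := fun h => hi ⟨q, h⟩
      simp only [Pi.sub_apply, Pi.single_apply, h1, h2, if_false, sub_zero] at this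
      exact this
    have hx1 : ∀ j, δ * x j = 0 := fun j => det_mul_eq_zero (Ψ.submatrix f id) id g hx0 j
    have hk' := congr_fun hx k
    simp only [Pi.sub_apply, Pi.single_apply, hki, if_true, if_false, sub_zero] at hk'
    rw [← hk', Matrix.mulVec, dotProduct, Finset.mul_sum]
    exact Finset.sum_eq_zero fun j _ => by rw [mul_left_comm, hx1, mul_zero]
  refine ⟨2, Submodule.mem_annihilator_span _ _ |>.2 ?_⟩
  rintro ⟨_, i, rfl⟩
  simp only [smul_eq_mul]
  by_cases hi : i ∈ Set.range f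
  swap
  · rw [pow_two, mul_assoc, hout i hi, mul_zero]
  obtain ⟨q, rfl⟩ := hi
  have hv : (fun q' => δ * p (f q')) ᵥ* (Ψ.submatrix f g) = 0 := funext fun j => by
    have := congr_arg (δ * ·) (hrel (g j))
    simp only [Finset.mul_sum, mul_zero] at this
    rw [← Finset.sum_subset (Finset.subset_univ (Finset.univ.image f)) (fun k _ hk => by
      rw [← mul_assoc, hout k (by simpa using hk), zero_mul])] at this
    rw [Finset.sum_image fun _ _ _ _ h => hf h] at this
    simpa [Matrix.vecMul, dotProduct, mul_assoc] using this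
  have := congr_arg (· ᵥ* (Ψ.submatrix f g).adjugate) hv
  simp only [Matrix.vecMul_vecMul, Matrix.mul_adjugate, Matrix.vecMul_smul, Matrix.vecMul_one,
    Matrix.zero_vecMul] at this
  have h3 := congr_fun this q
  simpa [pow_two, mul_assoc, ← hδ] using h3

/-- Hilbert–Burch: structure of the ideal. -/
theorem structure_eq [IsNoetherianRing R] (Ψ : Matrix (Fin (t + 1)) (Fin t) R) (p : Fin (t + 1) → R)
    (hΨ : Function.Injective Ψ.mulVecLin)
    (hex : ∀ v, ∑ i, p i * v i = 0 ↔ ∃ x, Ψ *ᵥ x = v) :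
    2 ≤ LocCoh.idealDepth (minorIdeal Ψ t) R ∧
      ∃ a ∈ nonZeroDivisors R, ∀ i, p i = a * Δ Ψ i := by
  classical
  obtain ⟨d, hd, hdreg⟩ := exists_nonZeroDivisor_of_annihilator ((injective_iff Ψ).1 hΨ)
  have hd' : ∀ x, d * x = 0 → x = 0 := fun x hx =>
    mem_nonZeroDivisors_iff_right.1 hdreg x (by rwa [mul_comm])
  obtain ⟨e, he, hde⟩ : ∃ e ∈ minorIdeal Ψ t, PairReg d e := by
    let mk := Ideal.Quotient.mk (Ideal.span {d})
    by_contra hne
    push Not at hne
    obtain ⟨c, hc, hcI⟩ := exists_annihilator_of_forall (Ideal.map mk (minorIdeal Ψ t)) (by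
      intro x hx hxreg
      obtain ⟨e, he, rfl⟩ := (Ideal.mem_map_iff_of_surjective mk Ideal.Quotient.mk_surjective).1 hx
      refine hne e he ⟨hd', fun y hy => ?_⟩
      have : mk y * mk e = 0 := by
        rw [← map_mul, mul_comm, Ideal.Quotient.eq_zero_iff_mem, Ideal.mem_span_singleton]
        exact hy
      have := mem_nonZeroDivisors_iff_right.1 hxreg _ this
      rwa [Ideal.Quotient.eq_zero_iff_mem, Ideal.mem_span_singleton] at this)
    obtain ⟨w, hw, hΨw⟩ := exists_ker_of_annihilator (Ψ.map mk) hc (fun f g => by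
      rw [show (Ψ.map mk).submatrix f g = mk.mapMatrix (Ψ.submatrix f g) from rfl,
        ← RingHom.map_det]
      exact hcI _ (Ideal.mem_map_of_mem _ (Ideal.subset_span ⟨(f, g), rfl⟩)))
    choose w' hw' using fun j => Ideal.Quotient.mk_surjective (w j)
    obtain rfl : (fun j => mk (w' j)) = w := funext hw'
    have hz : ∀ i, d ∣ (Ψ *ᵥ w') i := fun i => by
      rw [← Ideal.mem_span_singleton, ← Ideal.Quotient.eq_zero_iff_mem, RingHom.map_mulVec]
      exact congr_fun hΨw i
    choose z hz using hz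
    have hpz : ∑ i, p i * z i = 0 := by
      refine hd' _ ?_
      rw [Finset.mul_sum, ← (hex _).2 ⟨w', rfl⟩]
      exact Finset.sum_congr rfl fun i _ => by rw [hz i]; ring
    obtain ⟨u, hu⟩ := (hex z).1 hpz
    have : w' = d • u := hΨ (by
      ext i
      simp [hz i, Matrix.mulVec_smul, hu])
    refine hw (funext fun j => ?_)
    change mk (w' j) = 0
    rw [Ideal.Quotient.eq_zero_iff_mem, Ideal.mem_span_singleton, this]
    exact ⟨u j, rfl⟩
  refine ⟨two_le_idealDepth hd he hde, ?_⟩
  have hsym : ∀ i k, p i * Δ Ψ k = p k * Δ Ψ i := by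
    intro i k
    obtain ⟨x, hx⟩ := (hex (Pi.single k (p i) - Pi.single i (p k))).1 (by
      simp [mul_sub, Finset.sum_sub_distrib, Pi.single_apply, mul_ite]
      ring)
    have h1 := sum_mulVec_Δ Ψ x
    rw [hx] at h1
    simpa [sub_mul, Finset.sum_sub_distrib, Pi.single_apply, ite_mul, sub_eq_zero] using h1
  have hd2 := hd
  have he2 := he
  rw [minorIdeal_eq_span, Submodule.mem_span_range_iff_exists_fun] at hd2 he2
  obtain ⟨c, hc⟩ := hd2
  obtain ⟨l, hl⟩ := he2
  simp only [smul_eq_mul] at hc hl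
  have key : ∀ (c : Fin (t + 1) → R) (i : Fin (t + 1)),
      p i * (∑ k, c k * Δ Ψ k) = (∑ k, c k * p k) * Δ Ψ i := fun c i => by
    rw [Finset.mul_sum, Finset.sum_mul]
    exact Finset.sum_congr rfl fun k _ => by
      rw [mul_left_comm, hsym i k, mul_assoc]
  have hαβ : (∑ k, c k * p k) * e = (∑ k, l k * p k) * d := by
    conv_rhs => rw [← hc]
    rw [Finset.sum_mul, Finset.mul_sum]
    refine Finset.sum_congr rfl fun k _ => ?_
    have := key l k
    rw [hl] at this
    linear_combination c k * this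
  obtain ⟨a, ha⟩ := hde.2 (∑ k, c k * p k) ⟨∑ k, l k * p k, by rw [mul_comm, hαβ, mul_comm]⟩
  have hpa : ∀ i, p i = a * Δ Ψ i := fun i => by
    refine sub_eq_zero.1 (hd' _ ?_)
    rw [mul_sub, sub_eq_zero, mul_comm d (p i), ← hc, key c i, ha, hc]
    ring
  refine ⟨a, mem_nonZeroDivisors_iff_right.2 fun x hx => ?_, hpa⟩
  have hx' : ∀ i, x * p i = 0 := fun i => by rw [hpa i, ← mul_assoc, hx, zero_mul]
  have hxΔ : ∀ i, x * Δ Ψ i = 0 := fun i => by
    obtain ⟨y, hy⟩ := (hex (Pi.single i x)).1 (by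
      simp [Pi.single_apply, mul_ite, mul_comm _ x, hx'])
    have h1 := sum_mulVec_Δ Ψ y
    rw [hy] at h1
    simpa [Pi.single_apply, ite_mul] using h1
  have : x * d = 0 := by
    rw [← hc, Finset.mul_sum]
    exact Finset.sum_eq_zero fun k _ => by rw [mul_left_comm, hxΔ, mul_zero]
  exact hd' x (by rwa [mul_comm])

end Groth.Agent.McCoy
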