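import Groth.Agent.McCoy.FreeRes
import Mathlib.RingTheory.LocalRing.ResidueField.Basic
import Mathlib.LinearAlgebra.Matrix.Adjugate
import Mathlib.LinearAlgebra.Charpoly.Basic
import Mathlib.RingTheory.OrzechProperty

/-!
# Matrices with split image over a local ring
-/

noncomputable section

universe u

open CAlgX Matrix

namespace Groth.Agent.McCoy

variable {R : Type u} [CommRing R] {n m : ℕ}

/-- Laplace expansion: minors of size `r + 1` lie in the ideal of minors of size `r`. -/
theorem minorIdeal_succ_le (A : Matrix (Fin n) (Fin m) R) (r : ℕ) :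
    minorIdeal A (r + 1) ≤ minorIdeal A r := by
  rw [CAlgX.minorIdeal, CAlgX.minorIdeal, Ideal.span_le]
  rintro _ ⟨⟨f, g⟩, rfl⟩
  change (A.submatrix f g).det ∈ Ideal.span _
  rw [Matrix.det_succ_row_zero]
  refine Ideal.sum_mem _ fun j _ => Ideal.mul_mem_left _ _ ?_
  exact Ideal.subset_span ⟨(f ∘ Fin.succ, g ∘ j.succAbove), rfl⟩

theorem minorIdeal_antitone (A : Matrix (Fin n) (Fin m) R) : Antitone (minorIdeal A) :=
  antitone_nat_of_succ_le (minorIdeal_succ_le A)

theorem minorIdeal_map {S : Type u} [CommRing S] (φ : R →+* S) (A : Matrix (Fin n) (Fin m) R)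
    (r : ℕ) : (minorIdeal A r).map φ = minorIdeal (A.map φ) r := by
  rw [CAlgX.minorIdeal, CAlgX.minorIdeal, Ideal.map_span, ← Set.range_comp]
  congr 2
  funext fg
  exact RingHom.map_det φ (A.submatrix fg.1 fg.2)

theorem minorIdeal_rank_succ (A : Matrix (Fin n) (Fin m) R) :
    minorIdeal A (matrixRank A + 1) = ⊥ := by
  by_contra hne
  have := le_csSup (bddAbove_minor A) (show matrixRank A + 1 ∈ {r | minorIdeal A r ≠ ⊥} from hne)
  change matrixRank A + 1 ≤ matrixRank A at this
  omega

theorem matrixRank_eq [Nontrivial R] (A : Matrix (Fin n) (Fin m) R) {r : ℕ}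
    (h0 : minorIdeal A (r + 1) = ⊥) (h1 : minorIdeal A r ≠ ⊥) : matrixRank A = r := by
  refine le_antisymm (csSup_le ⟨r, h1⟩ fun k hk => ?_) (le_csSup (bddAbove_minor A) h1)
  by_contra hlt
  exact hk (le_bot_iff.1 (h0 ▸ minorIdeal_antitone A (show r + 1 ≤ k by omega)))

/-- The minors detecting a split image of rank `r`. -/
def RankUnit (A : Matrix (Fin n) (Fin m) R) (r : ℕ) : Prop :=
  minorIdeal A (r + 1) = ⊥ ∧ minorIdeal A r = ⊤

variable [IsLocalRing R]

theorem rankUnit_of_isCompl (A : Matrix (Fin n) (Fin m) R) {r : ℕ} {N' : Submodule R (Fin n → R)}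
    (hN' : IsCompl (LinearMap.range A.mulVecLin) N')
    (hr' : Module.finrank R (LinearMap.range A.mulVecLin) = r) : RankUnit A r := by
  classical
  set N := LinearMap.range A.mulVecLin with hN
  have hproj : Module.Projective R N := Module.Projective.of_split N.subtype
    (Submodule.projectionOnto N N' hN') (LinearMap.ext fun x => Submodule.projectionOnto_apply_left hN' x)
  haveI : Module.Free R N := Module.free_of_flat_of_isLocalRing
  let b : Module.Basis (Fin r) R N := Module.finBasisOfFinrankEq R N hr'
  let B : Matrix (Fin n) (Fin r) R := Matrix.of fun i k => ((b k : N) : Fin n → R) i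
  have hcol : ∀ j, A *ᵥ Pi.single j 1 ∈ N := fun j => ⟨Pi.single j 1, rfl⟩
  let D : Matrix (Fin r) (Fin m) R := Matrix.of fun k j => b.repr ⟨_, hcol j⟩ k
  have hAB : A = B * D := by
    ext i j
    have h1 := congr_arg (fun x : N => (x : Fin n → R) i) (b.sum_repr ⟨_, hcol j⟩)
    simp only [Submodule.coe_sum, Finset.sum_apply, Submodule.coe_smul, Pi.smul_apply,
      smul_eq_mul, Matrix.mulVec_single_one, Matrix.col_apply] at h1
    rw [← h1, Matrix.mul_apply]
    exact Finset.sum_congr rfl fun k _ => by
      simp only [B, D, Matrix.of_apply, Matrix.mulVec_single_one]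
      exact mul_comm _ _
  have hv : ∀ k, ∃ v, A *ᵥ v = ((b k : N) : Fin n → R) := fun k => (b k).2
  choose v hv using hv
  let E : Matrix (Fin m) (Fin r) R := Matrix.of fun j k => v k j
  have hAE : A * E = B := by
    ext i k
    exact congr_fun (hv k) i
  refine ⟨?_, ?_⟩
  · rw [CAlgX.minorIdeal, Ideal.span_eq_bot]
    rintro _ ⟨⟨f, g⟩, rfl⟩
    let B' : Matrix (Fin (r + 1)) (Fin (r + 1)) R := Matrix.of fun p => Fin.cons 0 (B (f p))
    let D' : Matrix (Fin (r + 1)) (Fin (r + 1)) R :=
      Matrix.of (Fin.cons 0 (fun k p => D k (g p)))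
    have : A.submatrix f g = B' * D' := by
      ext p q
      simp [hAB, Matrix.mul_apply, Fin.sum_univ_succ, B', D']
    change (A.submatrix f g).det = 0
    rw [this, Matrix.det_mul, Matrix.det_eq_zero_of_column_eq_zero 0 (fun p => by simp [B']),
      zero_mul]
  · by_contra hne
    have hle := IsLocalRing.le_maximalIdeal hne
    let k := IsLocalRing.ResidueField R
    let π := IsLocalRing.residue R
    let L : (Fin n → R) →ₗ[R] (Fin r → R) :=
      (b.equivFun.toLinearMap).comp (Submodule.projectionOnto N N' hN')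
    have hLB : LinearMap.toMatrix' L * B = 1 := by
      ext p q
      have : (LinearMap.toMatrix' L * B) p q = L ((b q : N) : Fin n → R) p := by
        rw [← LinearMap.toMatrix'_mulVec]
        rfl
      rw [this]
      simp [L, Submodule.projectionOnto_apply_left, Matrix.one_apply, Finsupp.single_apply, eq_comm]
    have hinjB : Function.Injective (B.map π).mulVecLin := by
      refine LinearMap.ker_eq_bot.1 (LinearMap.ker_eq_bot'.2 fun x hx => ?_)
      have h1 := congr_arg (((LinearMap.toMatrix' L).map π).mulVec ·) hx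
      simp only [Matrix.mulVecLin_apply, Matrix.mulVec_mulVec, ← Matrix.map_mul, hLB,
        Matrix.map_one _ (map_zero π) (map_one π), Matrix.one_mulVec, Matrix.mulVec_zero] at h1
      exact h1
    obtain ⟨f, hf⟩ : ∃ f : Fin r → Fin n, ((B.map π).submatrix f id).det ≠ 0 := by
      by_contra hall
      push Not at hall
      obtain ⟨x, hx, hx'⟩ := exists_ker_of_annihilator (B.map π) one_ne_zero
        (fun f g => by
          rw [one_mul]
          by_cases hg : Function.Bijective g
          · rw [show (B.map π).submatrix f g =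
              ((B.map π).submatrix f id).submatrix id (Equiv.ofBijective g hg) from rfl,
              Matrix.det_permute', hall f, mul_zero]
          · have : ¬ Function.Injective g := fun h => hg (Finite.injective_iff_bijective.1 h)
            simp only [Function.Injective, not_forall] at this
            obtain ⟨a, c, hac, hne⟩ := this
            exact Matrix.det_zero_of_column_eq hne fun i => by simp [hac])
      exact hx (hinjB (by simpa using hx'))
    let Af : Matrix (Fin r) (Fin m) k := (A.map π).submatrix f id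
    have hAf : Af * E.map π = (B.map π).submatrix f id := by
      rw [← hAE, Matrix.map_mul]
      rfl
    have hinjA : Function.Injective Af.transpose.mulVecLin := by
      refine LinearMap.ker_eq_bot.1 (LinearMap.ker_eq_bot'.2 fun x hx => ?_)
      have h1 := congr_arg ((E.map π).transpose.mulVec ·) hx
      simp only [Matrix.mulVecLin_apply, Matrix.mulVec_mulVec, ← Matrix.transpose_mul, hAf,
        Matrix.mulVec_zero] at h1
      exact Matrix.eq_zero_of_mulVec_eq_zero (by rwa [Matrix.det_transpose]) h1
    have hann := (injective_iff Af.transpose).1 hinjA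
    have : CAlgX.minorIdeal Af.transpose r = ⊥ := by
      rw [CAlgX.minorIdeal, Ideal.span_eq_bot]
      rintro _ ⟨⟨p, q⟩, rfl⟩
      change (Af.transpose.submatrix p q).det = 0
      rw [← Matrix.transpose_submatrix, Matrix.det_transpose]
      have : (A.submatrix (f ∘ q) p).det ∈ IsLocalRing.maximalIdeal R :=
        hle (Ideal.subset_span ⟨(f ∘ q, p), rfl⟩)
      rw [show Af.submatrix q p = π.mapMatrix (A.submatrix (f ∘ q) p) from rfl,
        ← RingHom.map_det]
      exact (IsLocalRing.residue_eq_zero_iff _).2 this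
    rw [this, Submodule.annihilator_bot] at hann
    exact top_ne_bot hann

theorem exists_isCompl_of_rankUnit {A : Matrix (Fin n) (Fin m) R} {r : ℕ} (h : RankUnit A r) :
    ∃ N', IsCompl (LinearMap.range A.mulVecLin) N' ∧
      Module.finrank R (LinearMap.range A.mulVecLin) = r := by
  classical
  obtain ⟨h0, h1⟩ := h
  obtain ⟨f, g, hu⟩ : ∃ f g, IsUnit (A.submatrix f g : Matrix (Fin r) (Fin r) R).det := by
    by_contra hne
    push Not at hne
    have : CAlgX.minorIdeal A r ≤ IsLocalRing.maximalIdeal R := by
      rw [CAlgX.minorIdeal, Ideal.span_le]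
      rintro _ ⟨⟨f, g⟩, rfl⟩
      exact (IsLocalRing.mem_maximalIdeal _).2 (hne f g)
    rw [h1] at this
    exact (IsLocalRing.maximalIdeal.isMaximal R).ne_top (top_le_iff.1 this)
  set S := A.submatrix f g with hS
  let C : Matrix (Fin n) (Fin r) R := A.submatrix id g
  have hcol : ∀ j i, (C *ᵥ (S.adjugate *ᵥ fun p => A (f p) j)) i = S.det * A i j := by
    intro j i
    set x := S.adjugate *ᵥ fun p => A (f p) j with hx
    have hx' : S *ᵥ x = S.det • fun p => A (f p) j := by
      rw [hx, Matrix.mulVec_mulVec, Matrix.mul_adjugate, Matrix.smul_mulVec, Matrix.one_mulVec]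
    let B : Matrix (Fin (r + 1)) (Fin (r + 1)) R := A.submatrix (Fin.cons i f) (Fin.cons j g)
    have hB : B.det = 0 := by
      have := h0.le (Ideal.subset_span ⟨((Fin.cons i f : Fin (r + 1) → Fin n),
        (Fin.cons j g : Fin (r + 1) → Fin m)), rfl⟩)
      exact (Submodule.mem_bot R).1 this
    have hy : B *ᵥ (Fin.cons (-S.det) x) =
        (Fin.cons ((C *ᵥ x) i - S.det * A i j) 0 : Fin (r + 1) → R) := by
      funext p
      induction p using Fin.cases with
      | zero =>
        simp [B, C, Matrix.mulVec, dotProduct, Fin.sum_univ_succ]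
        ring
      | succ q =>
        have h3 := congr_fun hx' q
        simp only [Matrix.mulVec, dotProduct, Pi.smul_apply, smul_eq_mul, hS,
          Matrix.submatrix_apply] at h3
        simp [B, Matrix.mulVec, dotProduct, Fin.sum_univ_succ, h3, hS]
        ring
    have h4 := congr_fun (congr_arg (B.adjugate.mulVec ·) hy) 0
    simp only [Matrix.mulVec_mulVec, Matrix.adjugate_mul, hB, zero_smul, Matrix.zero_mulVec,
      Pi.zero_apply] at h4
    rw [Matrix.mulVec, dotProduct, Fin.sum_univ_succ] at h4
    simp only [Fin.cons_zero, Fin.cons_succ, Pi.zero_apply, mul_zero, Finset.sum_const_zero,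
      add_zero, Matrix.adjugate_fin_succ_eq_det_submatrix, Fin.val_zero, pow_zero, one_mul] at h4
    rw [show B.submatrix (Fin.succAbove 0) (Fin.succAbove 0) = S by ext; simp [B, hS]] at h4
    exact sub_eq_zero.1 (hu.mul_right_eq_zero.1 h4.symm)
  let L : (Fin n → R) →ₗ[R] (Fin r → R) := (S⁻¹).mulVecLin.comp (LinearMap.funLeft R R f)
  have hLC : ∀ y, L (C *ᵥ y) = y := fun y => by
    change S⁻¹ *ᵥ (S *ᵥ y) = y
    rw [Matrix.mulVec_mulVec, Matrix.nonsing_inv_mul _ hu, Matrix.one_mulVec]
  have hrange : LinearMap.range A.mulVecLin = LinearMap.range C.mulVecLin := by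
    apply le_antisymm
    · rw [Matrix.range_mulVecLin, Submodule.span_le]
      rintro _ ⟨j, rfl⟩
      refine ⟨(↑hu.unit⁻¹ : R) • S.adjugate *ᵥ (fun p => A (f p) j), funext fun i => ?_⟩
      simp only [Matrix.mulVecLin_apply, Matrix.mulVec_smul, Pi.smul_apply, hcol, smul_eq_mul,
        ← mul_assoc]
      rw [IsUnit.val_inv_mul, one_mul, Matrix.col_apply]
    · rw [Matrix.range_mulVecLin, Submodule.span_le]
      rintro _ ⟨p, rfl⟩
      exact ⟨Pi.single (g p) 1, by ext i; simp [C]⟩
  have hinj : Function.Injective C.mulVecLin := Function.LeftInverse.injective hLC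
  refine ⟨LinearMap.ker L, ⟨?_, ?_⟩, ?_⟩
  · rw [disjoint_iff, eq_bot_iff, hrange]
    rintro _ ⟨⟨y, rfl⟩, hy⟩
    rw [SetLike.mem_coe, LinearMap.mem_ker, Matrix.mulVecLin_apply, hLC] at hy
    simp [hy]
  · rw [codisjoint_iff, eq_top_iff, hrange]
    intro z _
    refine Submodule.mem_sup.2 ⟨C.mulVecLin (L z), ⟨_, rfl⟩, z - C.mulVecLin (L z), ?_, by simp⟩
    rw [LinearMap.mem_ker, map_sub, Matrix.mulVecLin_apply, hLC, sub_self]
  · rw [hrange, ← (LinearEquiv.ofInjective C.mulVecLin hinj).finrank_eq, Module.finrank_fin_fun]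

/-- A summand of a free module of finite rank over a local ring. -/
theorem free_of_isCompl {N N' : Submodule R (Fin n → R)} (h : IsCompl N N') :
    Module.Free R N ∧ Module.Finite R N ∧ Module.Free R ((Fin n → R) ⧸ N) ∧
      Module.finrank R ((Fin n → R) ⧸ N) + Module.finrank R N = n := by
  have hfin : Module.Finite R N := Module.Finite.of_surjective
    (Submodule.projectionOnto N N' h) (fun x => ⟨x, Submodule.projectionOnto_apply_left h x⟩)
  have hfin' : Module.Finite R N' := Module.Finite.of_surjective
    (Submodule.projectionOnto N' N h.symm) (fun x => ⟨x, Submodule.projectionOnto_apply_left h.symm x⟩)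
  haveI : Module.Projective R N := Module.Projective.of_split N.subtype
    (Submodule.projectionOnto N N' h) (LinearMap.ext fun x => Submodule.projectionOnto_apply_left h x)
  haveI : Module.Projective R N' := Module.Projective.of_split N'.subtype
    (Submodule.projectionOnto N' N h.symm) (LinearMap.ext fun x => Submodule.projectionOnto_apply_left h.symm x)
  haveI : Module.Free R N := Module.free_of_flat_of_isLocalRing
  haveI : Module.Free R N' := Module.free_of_flat_of_isLocalRing
  let e := Submodule.quotientEquivOfIsCompl N N' h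
  refine ⟨inferInstance, hfin, Module.Free.of_equiv e.symm, ?_⟩
  have h2 := (Submodule.prodEquivOfIsCompl N N' h).finrank_eq
  rw [Module.finrank_prod, Module.finrank_fin_fun] at h2
  rw [e.finrank_eq]
  omega

theorem split_of_rankUnit {A : Matrix (Fin n) (Fin m) R} {r : ℕ} (h : RankUnit A r) :
    Module.Free R (LinearMap.range A.mulVecLin) ∧
      Module.finrank R (LinearMap.range A.mulVecLin) = r ∧
      Module.Free R ((Fin n → R) ⧸ LinearMap.range A.mulVecLin) ∧
      Module.finrank R ((Fin n → R) ⧸ LinearMap.range A.mulVecLin) + r = n := by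
  obtain ⟨N', hN', hr⟩ := exists_isCompl_of_rankUnit h
  obtain ⟨h1, -, h3, h4⟩ := free_of_isCompl hN'
  exact ⟨h1, hr, h3, hr ▸ h4⟩

theorem rankUnit_of_free (A : Matrix (Fin n) (Fin m) R) {r : ℕ}
    [Module.Free R ((Fin n → R) ⧸ LinearMap.range A.mulVecLin)]
    (hr : Module.finrank R (LinearMap.range A.mulVecLin) = r) : RankUnit A r := by
  set N := LinearMap.range A.mulVecLin
  obtain ⟨s, hs⟩ := Module.projective_lifting_property N.mkQ
    (LinearMap.id : ((Fin n → R) ⧸ N) →ₗ[R] _) N.mkQ_surjective
  let P : (Fin n → R) →ₗ[R] N := (LinearMap.id - s ∘ₗ N.mkQ).codRestrict N fun x => by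
    rw [← Submodule.Quotient.mk_eq_zero]
    have := LinearMap.congr_fun hs (N.mkQ x)
    simpa [sub_eq_zero, Submodule.mkQ_apply] using this.symm
  refine rankUnit_of_isCompl A (LinearMap.isCompl_of_proj (f := P) fun x => Subtype.ext ?_) hr
  have : N.mkQ (x : Fin n → R) = 0 := (Submodule.Quotient.mk_eq_zero N).2 x.2
  simp [P, this]

/-- Exactness from ranks. -/
theorem ker_eq_of_rank {A : Matrix (Fin n) (Fin m) R} (B : Submodule R (Fin m → R))
    (hle : B ≤ LinearMap.ker A.mulVecLin)
    [Module.Free R ((Fin m → R) ⧸ B)] [Module.Free R (LinearMap.range A.mulVecLin)]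
    (h : Module.finrank R ((Fin m → R) ⧸ B) = Module.finrank R (LinearMap.range A.mulVecLin)) :
    LinearMap.ker A.mulVecLin = B := by
  haveI : Module.Finite R (LinearMap.range A.mulVecLin) := Module.Finite.range _
  let φ : ((Fin m → R) ⧸ B) →ₗ[R] LinearMap.range A.mulVecLin :=
    B.liftQ A.mulVecLin.rangeRestrict (by rwa [LinearMap.ker_rangeRestrict])
  let e := LinearEquiv.ofFinrankEq (R := R) _ _ h
  have hsurj : Function.Surjective φ := fun y => by
    obtain ⟨x, hx⟩ := A.mulVecLin.surjective_rangeRestrict y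
    exact ⟨Submodule.Quotient.mk x, hx⟩
  have hinj : Function.Injective φ := by
    have h1 : Function.Injective (e.symm.toLinearMap ∘ₗ φ) :=
      OrzechProperty.injective_of_surjective_endomorphism _ (e.symm.surjective.comp hsurj)
    exact Function.Injective.of_comp h1
  refine le_antisymm (fun v hv => ?_) hle
  rw [← Submodule.Quotient.mk_eq_zero]
  refine hinj ?_
  rw [map_zero]
  exact Subtype.ext hv

end Groth.Agent.McCoy
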